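import Cfsg.Agent.Lib.S2918Core.CentIn

/-!
The odd cores of all involution centralizers are trivial.
-/

set_option autoImplicit false
set_option linter.style.haveILetI false
set_option linter.unusedSectionVars false

namespace Cfsg.Agent.S2918Core

open Subgroup ClosedAbelian

universe u

variable {G : Type u} [Group G] [Finite G] {S : Sylow 2 G} {A U₁ V : Subgroup G} {z : G}
  (K : Conf S A U₁ V z)
include K

namespace Conf

theorem sup_le_M : centralizer ({z} : Set G) ⊔ normalizer (A : Set G) ≤ normalizer (theta V : Set G) :=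
  sup_le K.cent_z K.NA_le_M

/-- An involution of a subgroup containing `S` and the fusing elements is conjugate into `A`. -/
theorem exists_into_A {M : Subgroup G} (hS : (S : Subgroup G) ≤ M)
    (hF : centralizer ({z} : Set G) ⊔ normalizer (A : Set G) ≤ M) {x : G} (hx : x ∈ M)
    (hx2 : x * x = 1) : ∃ c ∈ M, c * x * c⁻¹ ∈ A := by
  obtain ⟨m, hm, hle⟩ := LESylow.exists_conj_le_of_le (zpowers_le.2 hx) (twoEl_of_sq hx2).isPGroup
    (S.subtype hS)
  obtain ⟨s, hs, hse⟩ := hle ⟨x, mem_zpowers x, rfl⟩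
  have he : m * x * m⁻¹ = (s : G) := hse.symm
  have hsS : m * x * m⁻¹ ∈ (S : Subgroup G) := by rw [he]; exact hs
  obtain ⟨g, hg, hgA⟩ := K.inA _ hsS (by
    rw [show m * x * m⁻¹ * (m * x * m⁻¹) = m * (x * x) * m⁻¹ by group, hx2, mul_one, mul_inv_cancel])
  exact ⟨g * m, mul_mem (hF hg) hm, by simpa [mul_assoc] using hgA⟩

/-- The closure is trivial. -/
theorem theta_eq_bot : theta V = ⊥ := by
  set M := normalizer (theta V : Set G) with hM
  have hS : (S : Subgroup G) ≤ M := K.leN.trans K.NA_le_M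
  have hF : centralizer ({z} : Set G) ⊔ normalizer (A : Set G) ≤ M := K.sup_le_M
  obtain ⟨b, hbA, hb1, hzb⟩ := K.other
  have htop : M = ⊤ := by
    refine A8Type.eq_top_of_centralizers (a := b) (d := z) (K.toBase.sq hbA) hb1 (K.A_le_M hbA)
      (K.toBase.sq K.zA) (fun g h => hzb (isConj_iff.2 ⟨g, h⟩)) (fun x hx hx2 hx1 => ?_) fun g hg => ?_
    · obtain ⟨c, hc, hcA⟩ := K.exists_into_A hS hF hx hx2
      intro w hw
      have h1 : c * w * c⁻¹ ∈ M := K.cent_A hcA (fun h => hx1 (by simpa using h))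
        (A8Type.map_centralizer_singleton c x ▸ ⟨w, hw, rfl⟩)
      simpa [mul_assoc] using mul_mem (mul_mem (inv_mem hc) h1) hc
    · obtain ⟨c, hc, hcA⟩ := K.exists_into_A hS hF hg (by
        rw [show g * z * g⁻¹ * (g * z * g⁻¹) = g * (z * z) * g⁻¹ by group, K.toBase.sq K.zA, mul_one,
          mul_inv_cancel])
      obtain ⟨n, hn, hn'⟩ := K.ctrlz _ hcA (isConj_iff.2 ⟨c * g, by group⟩)
      have h1 : n⁻¹ * (c * g) ∈ M := K.cent_z (mem_centralizer_singleton_iff.2 (by
        calc n⁻¹ * (c * g) * z = n⁻¹ * (c * (g * z * g⁻¹) * c⁻¹) * (c * g) := by group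
          _ = n⁻¹ * (n * z * n⁻¹) * (c * g) := by rw [hn']
          _ = _ := by group))
      have h2 := mul_mem (inv_mem hc) (mul_mem (K.NA_le_M hn) h1)
      simpa [mul_assoc] using h2
  have hn : (theta V).Normal := normalizer_eq_top_iff.1 htop
  have h := PBasic.le_pPrimeCore (p := 2) hn (by
    rw [Nat.coprime_comm, Nat.prime_two.coprime_iff_not_dvd]
    exact K.theta_odd)
  exact le_bot_iff.1 (h.trans K.oddG.le)

/-- The odd core of every involution centralizer is trivial. -/
theorem core_eq_bot {x : G} (hx : orderOf x = 2) : core (centralizer ({x} : Set G)) = ⊥ := by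
  have hx2 : x * x = 1 := by rw [← pow_two, ← hx, pow_orderOf_eq_one]
  obtain ⟨c, -, hcA⟩ := K.exists_into_A (M := ⊤) le_top le_top (mem_top x) hx2
  have h1 := K.core_le_A hcA
  rw [K.theta_eq_bot] at h1
  have h2 := (conj_core_cent c x).trans h1
  rw [le_bot_iff, Subgroup.map_eq_bot_iff_of_injective _ (MulAut.conj c).injective] at h2
  exact h2

theorem core_cent_z : core (centralizer ({z} : Set G)) = ⊥ :=
  K.core_eq_bot (orderOf_eq_prime (hp := ⟨Nat.prime_two⟩) (K.ea.2 z K.zA) K.z1)

/-- The odd core of the centralizer of the central involution, as a group, is trivial. -/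
theorem oddCore_cent_z : Cfsg.oddCore ↥(centralizer ({z} : Set G)) = ⊥ := by
  have h := K.core_cent_z
  rwa [core, Subgroup.map_eq_bot_iff_of_injective _ (Subgroup.subtype_injective _)] at h

end Conf

end Cfsg.Agent.S2918Core
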