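import Cfsg.Agent.Lib.S2918Core.CentB

/-!
The subgroup of index at most two of `C(b)` centralizes `a` modulo its odd core; solvability of `C(b)`
when `a` is 2-central.
-/

set_option autoImplicit false
set_option linter.style.haveILetI false
set_option linter.unusedSectionVars false

namespace Cfsg.Agent.S2918Core

open Subgroup ClosedAbelian

universe u

variable {G : Type u} [Group G] [Finite G] {S : Sylow 2 G} {A : Subgroup G} {z : G}
  (K : Base S A z)
include K

namespace Base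

/-- A 2-element normalising `A` in a subgroup where it is Sylow lies in `A`. -/
theorem mem_A_of_two {X₀ : Subgroup G} (hAX : A ≤ X₀) (hodd : ¬ 2 ∣ A.relIndex X₀) {u : G}
    (hu : u ∈ X₀) (huN : u ∈ normalizer (A : Set G)) (h2 : TwoEl u) : u ∈ A := by
  haveI : Fact (Nat.Prime 2) := ⟨Nat.prime_two⟩
  set T' := A ⊔ zpowers u with hT'
  have hP : IsPGroup 2 ↥T' := IsPGroup.to_sup_of_normal_left' K.isP h2.isPGroup (zpowers_le.2 huN)
  have hle : A ≤ T' := le_sup_left
  have hT'X : T' ≤ X₀ := sup_le hAX (zpowers_le.2 hu)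
  have hd : A.relIndex T' ∣ A.relIndex X₀ := by
    rw [← relIndex_mul_relIndex A T' X₀ hle hT'X]
    exact Dvd.intro _ rfl
  obtain ⟨n, hn⟩ := hP.index (A.subgroupOf T')
  have h1 : A.relIndex T' = 1 := by
    rw [Subgroup.relIndex] at hd ⊢
    rw [hn] at hd ⊢
    rcases n with _ | n
    · rfl
    · exact absurd ((dvd_pow_self 2 n.succ_ne_zero).trans hd) hodd
  exact relIndex_eq_one.1 h1 (mem_sup_right (mem_zpowers u))

/-- `a` is the only conjugate of itself in `A` under the subgroup. -/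
theorem fix_a {x a : G} {X₀ : Subgroup G} (L : Loc A z x X₀ a) {g : G} (hg : g ∈ X₀)
    (hga : g * a * g⁻¹ ∈ A) : g * a * g⁻¹ = a := by
  have hAX := L.AX
  have hodd := L.odd
  haveI : Fact (Nat.Prime 2) := ⟨Nat.prime_two⟩
  let P : Sylow 2 ↥X₀ := (K.isP.comap_subtype (K := X₀)).toSylow (by rwa [Subgroup.relIndex] at hodd)
  have hP : IsMulCommutative ↥(P : Subgroup ↥X₀) := ⟨⟨fun p q => Subtype.ext (Subtype.ext
    (K.comm (show ((p : ↥X₀) : G) ∈ A from p.2) (show ((q : ↥X₀) : G) ∈ A from q.2)))⟩⟩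
  obtain ⟨v, hv, hve⟩ := AbelianSylow.fusion_normalizer P hP ⟨a, hAX L.aA⟩ (show a ∈ A from L.aA)
    ⟨g, hg⟩ (show g * a * g⁻¹ ∈ A from hga)
  have hvN : (v : G) ∈ normalizer (A : Set G) := by
    refine mem_normalizer_iff.2 fun y => ⟨fun hy => ?_, fun hy => ?_⟩
    · exact (mem_normalizer_iff.1 hv ⟨y, hAX hy⟩).1 hy
    · have hy' : y ∈ X₀ := by
        simpa [mul_assoc] using mul_mem (mul_mem (inv_mem v.2) (hAX hy)) v.2
      exact (mem_normalizer_iff.1 hv ⟨y, hy'⟩).2 hy
  obtain ⟨u, w, huw, hu, hw, hu2, hw2⟩ := exists_parts (v : G)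
  have huA : u ∈ A := K.mem_A_of_two hAX hodd (zpowers_le.2 v.2 hu) (zpowers_le.2 hvN hu) hu2
  have hwN : w ∈ normalizer (A : Set G) ⊓ X₀ :=
    mem_inf.2 ⟨zpowers_le.2 hvN hw, zpowers_le.2 v.2 hw⟩
  have hcomm : (v : G) * a = a * v := by
    rw [← huw]
    exact (Commute.mul_left (show Commute u a from K.comm huA L.aA)
      (show Commute w a from L.fixa w hwN hw2)).eq
  have := congrArg Subtype.val hve
  simp only [Subgroup.coe_mul, Subgroup.coe_inv] at this
  rw [← this, hcomm, mul_inv_cancel_right]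

/-- Modulo the odd core the subgroup centralizes `a`. -/
theorem X0_le {x a : G} {X₀ : Subgroup G} (L : Loc A z x X₀ a) :
    X₀ ≤ core X₀ ⊔ (X₀ ⊓ centralizer ({a} : Set G)) := by
  have hAX := L.AX
  have hodd := L.odd
  haveI : Fact (Nat.Prime 2) := ⟨Nat.prime_two⟩
  have ho : orderOf a = 2 := orderOf_eq_prime (K.ea.2 a L.aA) L.a1
  let P : Sylow 2 ↥X₀ := (K.isP.comap_subtype (K := X₀)).toSylow (by rwa [Subgroup.relIndex] at hodd)
  refine A8Type.isolated_decomp (hAX L.aA) ho (BrauerSuzuki.isIsolated_of_sylow (P := P)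
    (by rw [orderOf_mk, ho]) (show a ∈ A from L.aA) fun g hg => ?_)
  exact Subtype.ext (K.fix_a L g.2 (show ((g * ⟨a, hAX L.aA⟩ * g⁻¹ : ↥X₀) : G) ∈ A from hg))

/-- If `a` is 2-central then `C(x)` is solvable. -/
theorem solvable_x {x a : G} {X₀ : Subgroup G} (L : Loc A z x X₀ a)
    (hsol : Group.IsSolvable ↥(centralizer ({a} : Set G))) :
    Group.IsSolvable ↥(centralizer ({x} : Set G)) := by
  haveI : Fact (Nat.Prime 2) := ⟨Nat.prime_two⟩
  have hXb := L.le
  have hXn := L.norm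
  obtain ⟨D, hD2, -, hDX, hXtop⟩ := L.top
  set H := X₀ ⊓ centralizer ({a} : Set G) with hH
  haveI := hsol
  haveI hHs : Group.IsSolvable ↥(H.subgroupOf X₀) :=
    Group.isSolvable_of_isSolvable_injective (f := (Subgroup.inclusion (inf_le_right : H ≤ centralizer ({a} : Set G)) |>.comp
      (subgroupOfEquivOfLe (inf_le_left : H ≤ X₀)).toMonoidHom))
      ((Subgroup.inclusion_injective (inf_le_right : H ≤ centralizer ({a} : Set G))).comp (subgroupOfEquivOfLe (inf_le_left : H ≤ X₀)).injective)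
  haveI : (Cfsg.oddCore ↥X₀).Normal := FittingCores.pPrimeCore_normal 2
  haveI : Group.IsSolvable ↥(Cfsg.oddCore ↥X₀) := OddChar.oddSolvable _
    (Nat.coprime_two_right.1 (PBasic.pPrimeCore_coprime 2 _))
  haveI hX0s : Group.IsSolvable ↥X₀ := by
    set π := QuotientGroup.mk' (Cfsg.oddCore ↥X₀) with hπ
    have hsurj : Function.Surjective (π.comp (H.subgroupOf X₀).subtype) := by
      intro q
      obtain ⟨g, rfl⟩ := QuotientGroup.mk'_surjective _ q
      have hg := K.X0_le L g.2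
      rw [← SetLike.mem_coe, coe_mul_of_right_le_normalizer_left (core X₀) _
        ((inf_le_left : H ≤ X₀).trans (core_normalized X₀))] at hg
      obtain ⟨o, ⟨o', ho', rfl⟩, n, hn, he⟩ := hg
      refine ⟨⟨⟨n, (mem_inf.1 hn).1⟩, hn⟩, ?_⟩
      have hge : g = o' * ⟨n, (mem_inf.1 hn).1⟩ := Subtype.ext he.symm
      rw [hge, map_mul, hπ, show QuotientGroup.mk' (Cfsg.oddCore ↥X₀) o' = 1 from
        (QuotientGroup.eq_one_iff o').2 ho', one_mul]
      rfl
    haveI : Group.IsSolvable (↥X₀ ⧸ Cfsg.oddCore ↥X₀) := Group.isSolvable_of_surjective hsurj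
    exact Group.isSolvable_of_ker_le_range (Cfsg.oddCore ↥X₀).subtype π
      (by rw [hπ, QuotientGroup.ker_mk', Subgroup.range_subtype])
  set X := centralizer ({x} : Set G) with hX
  set T := D with hT
  set N := X₀.subgroupOf X with hN
  haveI : N.Normal := normal_subgroupOf_of_le_normalizer hXn
  haveI : Group.IsSolvable ↥N :=
    Group.isSolvable_of_isSolvable_injective (f := (subgroupOfEquivOfLe hXb).toMonoidHom) (subgroupOfEquivOfLe hXb).injective
  haveI : Group.IsSolvable ↥(T.subgroupOf X) := by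
    haveI : Group.IsNilpotent ↥(T.subgroupOf X) :=
      (hD2.comap_subtype (K := X)).isNilpotent
    exact IsNilpotent.to_isSolvable
  have hsurj : Function.Surjective ((QuotientGroup.mk' N).comp (T.subgroupOf X).subtype) := by
    intro q
    obtain ⟨g, rfl⟩ := QuotientGroup.mk'_surjective _ q
    have hg := hXtop g.2
    rw [← SetLike.mem_coe, coe_mul_of_right_le_normalizer_left X₀ _
      ((hDX : T ≤ X).trans hXn)] at hg
    obtain ⟨o, ho, n, hn, he⟩ := hg
    refine ⟨⟨⟨n, hDX hn⟩, hn⟩, ?_⟩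
    have hge : g = ⟨o, hXb ho⟩ * ⟨n, hDX hn⟩ := Subtype.ext he.symm
    rw [hge, map_mul, show QuotientGroup.mk' N ⟨o, hXb ho⟩ = 1 from
      (QuotientGroup.eq_one_iff _).2 ho, one_mul]
    rfl
  haveI : Group.IsSolvable (↥X ⧸ N) := Group.isSolvable_of_surjective hsurj
  exact Group.isSolvable_of_ker_le_range N.subtype (QuotientGroup.mk' N)
    (by rw [QuotientGroup.ker_mk', Subgroup.range_subtype])

end Base

end Cfsg.Agent.S2918Core
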