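import Cfsg.Agent.Lib.S2918Core.Basic
import Cfsg.Agent.Lib.A8Type.CentA

/-!
The centralizer of the involution `b`: a subgroup of index at most two with Sylow 2-subgroup `A`, in
which `a` is isolated.
-/

set_option autoImplicit false
set_option linter.style.haveILetI false
set_option linter.unusedSectionVars false

namespace Cfsg.Agent.S2918Core

open Subgroup ClosedAbelian

universe u

variable {G : Type u} [Group G] [Finite G] {S : Sylow 2 G} {A U₂ : Subgroup G} {z b : G}

namespace Base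

variable (K : Base S A z)
include K

theorem comm {x y : G} (hx : x ∈ A) (hy : y ∈ A) : x * y = y * x :=
  haveI := K.ea.1
  congrArg Subtype.val (mul_comm' (⟨x, hx⟩ : ↥A) ⟨y, hy⟩)

theorem sq {x : G} (hx : x ∈ A) : x * x = 1 := by rw [← pow_two]; exact K.ea.2 x hx

theorem inv {x : G} (hx : x ∈ A) : x⁻¹ = x := inv_eq_of_mul_eq_one_right (K.sq hx)

theorem isP : IsPGroup 2 ↥A := fun x => ⟨1, Subtype.ext (K.ea.2 x x.2)⟩

theorem leC {x : G} (hx : x ∈ A) : A ≤ centralizer ({x} : Set G) := fun _ hy =>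
  mem_centralizer_singleton_iff.2 (K.comm hy hx)

theorem abA : A ≤ centralizer (A : Set G) := fun _ hx =>
  mem_centralizer_iff.2 fun _ hy => K.comm hy hx

end Base

variable (K : BData S A U₂ z b)
include K

namespace BData

/-- `z` is central in `S`. -/
theorem z_central {s : G} (hs : s ∈ (S : Subgroup G)) : z * s = s * z := by
  haveI : Fact (Nat.Prime 2) := ⟨Nat.prime_two⟩
  haveI : Nontrivial (S : Subgroup G) :=
    Finite.one_lt_card_iff_nontrivial.1 (by rw [K.cardS]; norm_num)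
  haveI := S.2.center_nontrivial
  obtain ⟨⟨⟨w, hw⟩, hwc⟩, hw1⟩ := exists_ne (1 : Subgroup.center (S : Subgroup G))
  have hall : ∀ s ∈ (S : Subgroup G), w * s = s * w := fun s hs =>
    (congrArg Subtype.val (mem_center_iff.1 hwc ⟨s, hs⟩)).symm
  rcases K.center w hw hall with h | h
  · exact absurd (Subtype.ext (Subtype.ext h)) hw1
  · exact h ▸ hall s hs

/-- The subgroup `C_S(b)`. -/
theorem A_le_T : A ≤ (S : Subgroup G) ⊓ centralizer ({b} : Set G) := le_inf K.leA (K.toBase.leC K.bA)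

/-- Two elements outside `A` in `C_S(b)` multiply into `A`. -/
theorem index_two {x y : G} (hx : x ∈ (S : Subgroup G) ⊓ centralizer ({b} : Set G))
    (hy : y ∈ (S : Subgroup G) ⊓ centralizer ({b} : Set G)) (hxA : x ∉ A) (hyA : y ∉ A) :
    x * y ∈ A := by
  set T := (S : Subgroup G) ⊓ centralizer ({b} : Set G) with hT
  have hidx : (A.subgroupOf T).index = 2 := by
    have h := (A.subgroupOf T).card_mul_index
    rw [Nat.card_congr (subgroupOfEquivOfLe K.A_le_T).toEquiv, K.cardA] at h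
    have hc : Nat.card ↥T = 32 := K.cardT
    omega
  have := (mul_mem_iff_of_index_two hidx (a := (⟨x, hx⟩ : ↥T)) (b := ⟨y, hy⟩)).2
    ⟨fun h => absurd h hxA, fun h => absurd h hyA⟩
  exact this

/-- `C_S(b)` is a Sylow 2-subgroup of `C(b)`. -/
theorem T_max {P : Subgroup G} (hP : IsPGroup 2 ↥P) (hPb : P ≤ centralizer ({b} : Set G))
    (hTP : (S : Subgroup G) ⊓ centralizer ({b} : Set G) ≤ P) :
    P = (S : Subgroup G) ⊓ centralizer ({b} : Set G) := by
  haveI : Fact (Nat.Prime 2) := ⟨Nat.prime_two⟩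
  refine (eq_of_le_of_card_ge hTP ?_).symm
  rw [K.cardT]
  obtain ⟨n, hn⟩ := hP.exists_card_eq
  by_contra hlt
  obtain ⟨P', hP'⟩ := hP.exists_le_sylow
  have hcard : Nat.card P' = 64 := by
    rw [← K.cardS]
    exact Nat.card_congr (Sylow.equiv P' S).toEquiv
  have h64 : 64 ≤ Nat.card P := by
    rw [hn] at hlt ⊢
    rcases Nat.lt_or_ge n 6 with h | h
    · exact absurd ((Nat.pow_le_pow_right two_pos (by omega : n ≤ 5))) hlt
    · calc (64 : ℕ) = 2 ^ 6 := rfl
        _ ≤ 2 ^ n := Nat.pow_le_pow_right two_pos h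
  have heq : P = P' := eq_of_le_of_card_ge hP' (by rw [hcard]; exact h64)
  obtain ⟨g, hg⟩ := MulAction.exists_smul_eq G P' S
  have hmem : ∀ x ∈ P, g * x * g⁻¹ ∈ (S : Subgroup G) := fun x hx => by
    rw [← hg, Sylow.coe_subgroup_smul]
    exact Subgroup.smul_mem_pointwise_smul x (MulAut.conj g) _ (heq ▸ hx)
  have hbP : b ∈ P := hTP (mem_inf.2 ⟨K.leA K.bA, mem_centralizer_singleton_iff.2 rfl⟩)
  refine (K.center _ (hmem b hbP) fun s hs => ?_).elim
    (fun h => K.b1 (by simpa using h)) fun h => K.nbz (isConj_iff.2 ⟨g, h⟩).symm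
  obtain ⟨y, hy, rfl⟩ : ∃ y ∈ P, g * y * g⁻¹ = s := by
    rw [← hg, Sylow.coe_subgroup_smul] at hs
    obtain ⟨y, hy, rfl⟩ := Subgroup.mem_smul_pointwise_iff_exists _ _ _ |>.1 hs
    exact ⟨y, heq ▸ hy, rfl⟩
  have := mem_centralizer_singleton_iff.1 (hPb hy)
  calc g * b * g⁻¹ * (g * y * g⁻¹) = g * (b * y) * g⁻¹ := by group
    _ = g * (y * b) * g⁻¹ := by rw [this]
    _ = _ := by group

/-- An element of `C_S(b) ∖ A` is not conjugate in `C(b)` into `A`. -/
theorem no_fuse {x g : G} (hx : x ∈ (S : Subgroup G) ⊓ centralizer ({b} : Set G)) (hxA : x ∉ A)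
    (hg : g ∈ centralizer ({b} : Set G)) : g * x * g⁻¹ ∉ A := by
  haveI : Fact (Nat.Prime 2) := ⟨Nat.prime_two⟩
  intro hgx
  set T := (S : Subgroup G) ⊓ centralizer ({b} : Set G) with hT
  have hxx : x * x = 1 := by
    have := K.toBase.sq hgx
    rw [show g * x * g⁻¹ * (g * x * g⁻¹) = g * (x * x) * g⁻¹ by group] at this
    simpa using this
  have hxU : x ∈ U₂ := K.u2out x hx hxA hxx
  have hgb := mem_centralizer_singleton_iff.1 hg
  have hxb := mem_centralizer_singleton_iff.1 (mem_inf.1 hx).2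
  set C := centralizer ({b} : Set G) ⊓ centralizer ({x} : Set G) with hC
  have hBC : zpowers b ⊔ zpowers z ≤ C := by
    refine sup_le (zpowers_le.2 (mem_inf.2 ⟨?_, ?_⟩)) (zpowers_le.2 (mem_inf.2 ⟨?_, ?_⟩)) <;>
      rw [mem_centralizer_singleton_iff]
    · exact hxb.symm
    · exact K.toBase.comm K.zA K.bA
    · exact K.z_central (mem_inf.1 hx).1
  have hUdec : ∀ y ∈ U₂, y ∈ zpowers b ⊔ zpowers z ∨ x * y ∈ zpowers b ⊔ zpowers z := by
    intro y hy
    by_cases hyA : y ∈ A
    · exact Or.inl (K.u2A (mem_inf.2 ⟨hy, hyA⟩))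
    · exact Or.inr (K.u2A (mem_inf.2 ⟨mul_mem hxU hy, K.index_two hx (K.u2le hy) hxA hyA⟩))
  have hxC : x ∈ C := mem_inf.2 ⟨(mem_inf.1 hx).2, mem_centralizer_singleton_iff.2 rfl⟩
  have hUC : U₂ ≤ C := fun y hy => by
    rcases hUdec y hy with h | h
    · exact hBC h
    · simpa using mul_mem (inv_mem hxC) (hBC h)
  have hU8 : Nat.card U₂ ≤ 8 := by
    have hB : Nat.card ↥(zpowers b ⊔ zpowers z : Subgroup G) ≤ 4 := by
      have hn : zpowers z ≤ normalizer (zpowers b : Set G) := zpowers_le.2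
        (centralizer_le_normalizer _ (mem_centralizer_iff.2 fun y hy => by
          obtain ⟨i, rfl⟩ := mem_zpowers_iff.1 hy
          exact ((show Commute b z from K.toBase.comm K.bA K.zA).zpow_left i).eq))
      rw [← SetLike.coe_sort_coe, coe_mul_of_right_le_normalizer_left _ _ hn]
      refine (Set.natCard_mul_le ..).trans ?_
      rw [SetLike.coe_sort_coe, SetLike.coe_sort_coe, Nat.card_zpowers, Nat.card_zpowers,
        orderOf_eq_prime (show b ^ 2 = 1 from K.ea.2 b K.bA) K.b1,
        orderOf_eq_prime (show z ^ 2 = 1 from K.ea.2 z K.zA) K.z1]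
    classical
    let f : ↥U₂ → ↥(zpowers b ⊔ zpowers z : Subgroup G) × Bool := fun y =>
      if h : (y : G) ∈ zpowers b ⊔ zpowers z then (⟨y, h⟩, false)
      else (⟨x * y, (hUdec y y.2).resolve_left h⟩, true)
    have hf : Function.Injective f := by
      intro y y' h
      simp only [f] at h
      split_ifs at h with h1 h2 h2
      · exact Subtype.ext (congrArg (fun p => (p.1 : G)) h)
      · simp at h
      · simp at h
      · exact Subtype.ext (mul_left_cancel (congrArg (fun p => (p.1 : G)) h))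
    have := Nat.card_le_card_of_injective f hf
    rw [Nat.card_prod, Nat.card_eq_fintype_card (α := Bool), Fintype.card_bool] at this
    omega
  -- a Sylow subgroup of `C` is larger than `U₂`
  obtain ⟨P, hP⟩ := ((S.2.to_le (K.u2le.trans inf_le_left)).comap_subtype (K := C)).exists_le_sylow
  set P' := (P : Subgroup ↥C).map C.subtype with hP'
  have hUP : U₂ ≤ P' := fun y hy => ⟨⟨y, hUC hy⟩, hP hy, rfl⟩
  have hP'C : P' ≤ C := map_subtype_le _
  have hgA : A.map (MulAut.conj g⁻¹).toMonoidHom ≤ C := by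
    rintro _ ⟨y, hy, rfl⟩
    simp only [MulEquiv.coe_toMonoidHom, MulAut.conj_apply, inv_inv, hC, mem_inf,
      mem_centralizer_singleton_iff]
    have h1 := K.toBase.comm hy K.bA
    have h2 := K.toBase.comm hy hgx
    constructor
    · calc g⁻¹ * y * g * b = g⁻¹ * y * (g * b) := by group
        _ = g⁻¹ * (y * b) * g := by rw [hgb]; group
        _ = g⁻¹ * (b * g) * g⁻¹ * y * g := by rw [h1]; group
        _ = g⁻¹ * (g * b) * g⁻¹ * y * g := by rw [hgb]
        _ = _ := by group
    · calc g⁻¹ * y * g * x = g⁻¹ * (y * (g * x * g⁻¹)) * g := by group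
        _ = g⁻¹ * (g * x * g⁻¹ * y) * g := by rw [h2]
        _ = _ := by group
  have h16 : 16 ≤ Nat.card P' := by
    have h1 : (2 : ℕ) ^ 4 ∣ Nat.card ↥C := by
      have := card_dvd_of_le hgA
      rwa [LEBasic.card_map_conj, K.cardA] at this
    rw [hP', card_subtype]
    exact Nat.le_of_dvd Nat.card_pos (P.pow_dvd_card_of_pow_dvd_card h1)
  -- but `U₂` is self-centralizing
  have hlt : U₂ = P' := by
    refine LESylow.eq_of_normalizer_inf_le (P.2.map _) hUP fun y hy => ?_
    obtain ⟨hyP, hyN⟩ := mem_inf.1 hy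
    have hyz : y * z * y⁻¹ = z := K.u2uniq y ((mem_normalizer_iff.1 hyN z).1 K.u2z)
    have hyz' : y * z = z * y := mul_inv_eq_iff_eq_mul.1 hyz
    obtain ⟨hy1, hy2⟩ := mem_inf.1 (hP'C hyP)
    have hB : zpowers b ⊔ zpowers z ≤ centralizer ({y} : Set G) := sup_le
      (zpowers_le.2 (mem_centralizer_singleton_iff.2 (mem_centralizer_singleton_iff.1 hy1).symm))
      (zpowers_le.2 (mem_centralizer_singleton_iff.2 hyz'.symm))
    have hyU : y ∈ centralizer (U₂ : Set G) := by
      refine mem_centralizer_iff.2 fun w hw => ?_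
      rcases hUdec w hw with h | h
      · exact mem_centralizer_singleton_iff.1 (hB h)
      · have h1 : x * w ∈ centralizer ({y} : Set G) := hB h
        have h2 : x ∈ centralizer ({y} : Set G) :=
          mem_centralizer_singleton_iff.2 (mem_centralizer_singleton_iff.1 hy2).symm
        have := mul_mem (inv_mem h2) h1
        rw [inv_mul_cancel_left] at this
        exact mem_centralizer_singleton_iff.1 this
    have hzP : IsPGroup 2 ↥(zpowers y) := (P.2.map _).to_le (zpowers_le.2 hyP)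
    obtain ⟨n, hn, hle⟩ := LESylow.exists_conj_le_of_le (zpowers_le.2 hyN) hzP (S.subtype K.u2N)
    obtain ⟨s, hs, hse⟩ := hle ⟨y, mem_zpowers y, rfl⟩
    have hsS : n * y * n⁻¹ ∈ (S : Subgroup G) := by
      have : n * y * n⁻¹ = (s : G) := hse.symm
      rw [this]; exact hs
    have h3 : n * y * n⁻¹ ∈ centralizer (U₂ : Set G) := by
      rw [← LEBasic.map_conj_eq_iff_mem_normalizer.2
        (LELarge.normalizer_le_normalizer_centralizer U₂ hn)]
      exact ⟨y, hyU, rfl⟩
    exact (mem_normalizer_iff.1 hn y).2 (K.u2C (mem_inf.2 ⟨hsS, h3⟩))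
  rw [← hlt] at h16
  omega

/-- The subgroup of index at most two of `C(b)`. -/
theorem exists_X0 : ∃ X₀ : Subgroup G, X₀ ≤ centralizer ({b} : Set G) ∧
    centralizer ({b} : Set G) ≤ normalizer (X₀ : Set G) ∧ A ≤ X₀ ∧ ¬ 2 ∣ A.relIndex X₀ ∧
    centralizer ({b} : Set G) ≤ X₀ ⊔ ((S : Subgroup G) ⊓ centralizer ({b} : Set G)) := by
  haveI : Fact (Nat.Prime 2) := ⟨Nat.prime_two⟩
  set T := (S : Subgroup G) ⊓ centralizer ({b} : Set G) with hT
  set X := centralizer ({b} : Set G) with hX
  obtain ⟨P, hP⟩ := ((S.2.to_le (inf_le_left : T ≤ _)).comap_subtype (K := X)).exists_le_sylow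
  have hPT : (P : Subgroup ↥X).map X.subtype = T :=
    K.T_max (P.2.map _) (map_subtype_le _) fun y hy => ⟨⟨y, (mem_inf.1 hy).2⟩, hP hy, rfl⟩
  have hPeq : (P : Subgroup ↥X) = T.subgroupOf X := by
    rw [← hPT, Subgroup.subgroupOf, comap_map_eq_self_of_injective X.subtype_injective]
  obtain ⟨M, hM, hPM, hPMtop⟩ := A8Type.exists_normal_of_focal P (A.subgroupOf X)
    (hPeq ▸ (Subgroup.comap_mono K.A_le_T)) (by
      intro x hx g hgx
      rw [hPeq] at hx hgx
      rw [mem_subgroupOf] at hx hgx ⊢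
      simp only [Subgroup.coe_mul, Subgroup.coe_inv] at hgx ⊢
      by_cases hxA : (x : G) ∈ A
      · by_cases hgA : (g : G) * x * (g : G)⁻¹ ∈ A
        · exact mul_mem (inv_mem hxA) hgA
        · exact absurd (by simpa [mul_assoc] using hxA) (K.no_fuse hgx hgA (inv_mem g.2))
      · exact K.index_two (inv_mem hx) hgx (fun h => hxA (by simpa using inv_mem h))
          (K.no_fuse hx hxA g.2))
  refine ⟨M.map X.subtype, map_subtype_le _, ?_, ?_, ?_, ?_⟩
  · have h := le_normalizer_map (H := M) X.subtype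
    rwa [normalizer_eq_top_iff.2 hM, ← MonoidHom.range_eq_map, range_subtype] at h
  · intro y hy
    exact ⟨⟨y, K.toBase.leC K.bA hy⟩, (mem_inf.1 (hPM ▸ (show (⟨y, K.toBase.leC K.bA hy⟩ : ↥X) ∈ A.subgroupOf X
      from hy) : _ ∈ (P : Subgroup ↥X) ⊓ M)).2, rfl⟩
  · rw [← map_subgroupOf_eq_of_le (K.A_le_T.trans inf_le_right),
      relIndex_map_map_of_injective _ _ X.subtype_injective, ← hPM, inf_comm,
      inf_relIndex_left]
    haveI := hM
    have hMi : M.index = M.relIndex (P : Subgroup ↥X) := by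
      rw [← relIndex_top_right, ← hPMtop, sup_comm, relIndex_sup_left]
    have e1 := relIndex_mul_index (inf_le_right : (P : Subgroup ↥X) ⊓ M ≤ M)
    have e2 := relIndex_mul_index (inf_le_left : (P : Subgroup ↥X) ⊓ M ≤ P)
    rw [inf_relIndex_right] at e1
    rw [inf_relIndex_left, ← hMi, ← e1, mul_comm _ M.index] at e2
    rw [← Nat.eq_of_mul_eq_mul_left (Nat.pos_of_ne_zero Subgroup.index_ne_zero_of_finite) e2]
    exact P.not_dvd_index
  · have h := congrArg (Subgroup.map X.subtype) hPMtop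
    rw [Subgroup.map_sup, hPT, ← MonoidHom.range_eq_map, range_subtype, sup_comm] at h
    exact h.ge

end BData

end Cfsg.Agent.S2918Core
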