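import Cfsg.Agent.Lib.S2918Core.Setup
import Cfsg.Agent.Lib.Solvable.Coprime

/-!
Balance into a solvable group, and generation of odd subgroups by the centralizers of a four-group.
-/

set_option autoImplicit false
set_option linter.style.haveILetI false
set_option linter.unusedSectionVars false

namespace Cfsg.Agent.S2918Core

open Subgroup ClosedAbelian

universe u

variable {G : Type u} [Group G] [Finite G]

/-- An odd subgroup of a solvable group centralised by a 2-subgroup and normalised by its centralizer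
lies in the odd core. -/
theorem solv_core_le {H U Y : Subgroup G} [Group.IsSolvable H] (hU : IsPGroup 2 ↥U) (hUH : U ≤ H)
    (hY : Y ≤ H) (hYU : Y ≤ centralizer (U : Set G))
    (hn : H ⊓ centralizer (U : Set G) ≤ normalizer (Y : Set G)) (ho : ¬ 2 ∣ Nat.card Y) :
    Y ≤ core H := by
  haveI : Fact (Nat.Prime 2) := ⟨Nat.prime_two⟩
  have h : Y.subgroupOf H ≤ Cfsg.pPrimeCore 2 ↥H := by
    refine Signalizer.SFT.le_pPrimeCore_of_normalized_centralizer
      (U := U.subgroupOf H) (hU.comap_subtype (K := H)) ?_ ?_ ?_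
    · intro y hy
      refine mem_centralizer_iff.2 fun u hu => Subtype.ext ?_
      exact mem_centralizer_iff.1 (hYU hy) (u : G) hu
    · intro c hc
      have hcG : (c : G) ∈ normalizer (Y : Set G) := hn (mem_inf.2 ⟨c.2, mem_centralizer_iff.2
        fun u hu => congrArg Subtype.val (mem_centralizer_iff.1 hc ⟨u, hUH hu⟩ hu)⟩)
      exact mem_normalizer_iff.2 fun w => by
        simpa [mem_subgroupOf] using mem_normalizer_iff.1 hcG (w : G)
    · rw [Nat.card_congr (subgroupOfEquivOfLe hY).toEquiv, Nat.coprime_comm,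
        Nat.prime_two.coprime_iff_not_dvd]
      exact ho
  intro y hy
  exact ⟨⟨y, hY hy⟩, h (mem_subgroupOf.2 hy), rfl⟩

/-- Balance into a solvable centralizer. -/
theorem balance {a : G} (ha : a * a = 1) {H : Subgroup G} [Group.IsSolvable H] (haH : a ∈ H) :
    core (centralizer ({a} : Set G)) ⊓ H ≤ core H := by
  refine solv_core_le (U := zpowers a) (twoEl_of_sq ha).isPGroup (zpowers_le.2 haH) inf_le_right ?_ ?_ ?_
  · intro y hy
    refine mem_centralizer_iff.2 fun u hu => ?_
    obtain ⟨i, rfl⟩ := mem_zpowers_iff.1 hu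
    have h := mem_centralizer_singleton_iff.1 (core_le _ (mem_inf.1 hy).1)
    exact ((show Commute a y from h.symm).zpow_left i).eq
  · intro c hc
    obtain ⟨hcH, hc2⟩ := mem_inf.1 hc
    have hca : c ∈ centralizer ({a} : Set G) :=
      mem_centralizer_singleton_iff.2 (mem_centralizer_iff.1 hc2 a (mem_zpowers a)).symm
    exact inf_normalizer_le_normalizer_inf
      (mem_inf.2 ⟨core_normalized _ hca, Subgroup.le_normalizer hcH⟩)
  · exact fun h => core_odd _ (h.trans (card_dvd_of_le inf_le_left))

theorem isCyclic_not {V : Subgroup G} (hV : ∀ v ∈ V, v * v = 1) (h4 : 4 ≤ Nat.card V) :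
    ¬ IsCyclic V := by
  intro h
  obtain ⟨g, hg⟩ := IsCyclic.exists_generator (α := V)
  have hgg : g ^ 2 = 1 := Subtype.ext (by rw [pow_two]; exact hV g g.2)
  have hle : Nat.card V ≤ 2 := by
    rw [← orderOf_eq_card_of_forall_mem_zpowers hg]
    exact orderOf_le_of_pow_eq_one two_pos hgg
  omega

/-- An odd subgroup normalised by a four-group lies in any subgroup containing its fixed points. -/
theorem le_of_cent {V K L : Subgroup G} (hV : Cfsg.IsElementaryAbelian 2 V) (h4 : 4 ≤ Nat.card V)
    (hn : V ≤ normalizer (K : Set G)) (ho : ¬ 2 ∣ Nat.card K)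
    (h : ∀ v ∈ V, v ≠ 1 → K ⊓ centralizer ({v} : Set G) ≤ L) : K ≤ L := by
  haveI : Fact (Nat.Prime 2) := ⟨Nat.prime_two⟩
  haveI := hV.1
  have hcop : (Nat.card V).Coprime (Nat.card K) := by
    obtain ⟨n, hn⟩ := (show IsPGroup 2 ↥V from fun a => ⟨1, Subtype.ext (hV.2 a a.2)⟩).exists_card_eq
    rw [hn]
    exact (Nat.prime_two.coprime_iff_not_dvd.2 ho).pow_left n
  refine (CoprimeAct.generated_by_centralizers
    (isCyclic_not (fun v hv => by rw [← pow_two]; exact hV.2 v hv) h4) hn hcop).ge.trans ?_
  exact iSup₂_le fun v hv => h v hv.1 hv.2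

/-- Solvability passes to the centralizer of a conjugate. -/
theorem solvable_cent_conj {x y : G} (h : IsConj x y)
    (hs : Group.IsSolvable ↥(centralizer ({x} : Set G))) :
    Group.IsSolvable ↥(centralizer ({y} : Set G)) := by
  obtain ⟨g, rfl⟩ := isConj_iff.1 h
  haveI := hs
  rw [← A8Type.map_centralizer_singleton g x]
  exact Group.isSolvable_of_surjective
    ((MulAut.conj g).toMonoidHom.subgroupMap_surjective (centralizer ({x} : Set G)))

/-- The core of the centralizer of a conjugate. -/
theorem conj_core_cent (g x : G) :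
    (core (centralizer ({x} : Set G))).map (MulAut.conj g).toMonoidHom ≤
      core (centralizer ({g * x * g⁻¹} : Set G)) :=
  (conj_core_le _ g).trans (A8Type.map_centralizer_singleton g x ▸ le_rfl)

end Cfsg.Agent.S2918Core
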