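import Cfsg.Agent.Lib.GW.Main
import Cfsg.Agent.Lib.GW.OddInvariant
import Cfsg.Agent.Lib.SmallCent.Main
import Cfsg.Agent.S0992

/-!
An odd subgroup of a group with a four-group as Sylow 2-subgroup containing the odd parts of the
involution centralizers and normalised by them lies in the odd core.
-/

set_option autoImplicit false
set_option linter.style.haveILetI false
set_option linter.unusedSectionVars false

namespace Cfsg.Agent.S2918Core

open Subgroup

universe u

theorem eight_not_dvd {X : Type u} [Group X] [Finite X] (P : Sylow 2 X)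
    (hP : IsKleinFour (P : Subgroup X)) : ¬ 8 ∣ Nat.card X := by
  haveI : Fact (Nat.Prime 2) := ⟨Nat.prime_two⟩
  intro h
  have := P.pow_dvd_card_of_pow_dvd_card (n := 3) h
  rw [hP.card_four] at this
  norm_num at this

theorem dihSylow_of_klein {X : Type u} [Group X] [Finite X] (P : Sylow 2 X)
    (hP : IsKleinFour (P : Subgroup X)) : GW.DihSylow X := by
  haveI := hP
  haveI : IsKleinFour (DihedralGroup 2) := inferInstance
  exact ⟨P, 2, le_rfl, IsKleinFour.nonempty_mulEquiv⟩

/-- The reduced case. -/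
theorem klein_reduced {X : Type u} [Group X] [Finite X] (P : Sylow 2 X)
    (hP : IsKleinFour (P : Subgroup X)) (hs : GW.Shape X) (R : Subgroup X) (hR : ¬ 2 ∣ Nat.card R)
    (hcent : ∀ v ∈ (P : Subgroup X), ∀ r ∈ R, v * r = r * v)
    (hc : ∀ v ∈ (P : Subgroup X), v ≠ 1 → ∀ g : X, g * v = v * g →
      ∃ r ∈ R, ∃ p ∈ (P : Subgroup X), g = r * p) : R = ⊥ := by
  haveI : Fact (Nat.Prime 2) := ⟨Nat.prime_two⟩
  haveI := hP
  refine (eq_bot_iff_forall _).2 fun r hr => ?_
  have hro : Odd (orderOf r) := by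
    rw [← Nat.not_even_iff_odd, even_iff_two_dvd]
    exact fun h => hR (h.trans (R.orderOf_dvd_natCard hr))
  have hP_odd : ∀ x ∈ (P : Subgroup X), Odd (orderOf x) → x = 1 := fun x hx ho => by
    obtain ⟨k, hk⟩ := P.2 ⟨x, hx⟩
    have hd : orderOf x ∣ 2 ^ k := orderOf_dvd_of_pow_eq_one (congrArg Subtype.val hk)
    exact orderOf_eq_one_iff.1 (Nat.eq_one_of_dvd_coprimes
      (Nat.Coprime.pow_right k (Nat.coprime_two_right.2 ho)) dvd_rfl hd)
  rcases hs with h2 | ⟨W, hWn, hW, hWc, -⟩ | ⟨L, hLn, hLs, hLnc, hLt, hLC⟩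
  · obtain ⟨k, hk⟩ := IsPGroup.iff_orderOf.1 h2 r
    rw [hk] at hro
    rcases k with _ | k
    · rw [pow_zero] at hk; exact orderOf_eq_one_iff.1 hk
    · exact absurd hro (Nat.not_odd_iff_even.2 (Even.pow_of_ne_zero (by norm_num) (by omega)))
  · haveI := hW
    obtain ⟨T, hT⟩ := (IsPGroup.of_card (p := 2) (n := 2) hW.card_four).exists_le_sylow
    obtain ⟨g, hg⟩ := MulAction.exists_smul_eq X T P
    have hWP : W ≤ (P : Subgroup X) := by
      intro w hw
      rw [← hg, Sylow.coe_subgroup_smul]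
      have h1 : g⁻¹ * w * g ∈ (T : Subgroup X) := hT (by simpa using hWn.conj_mem w hw g⁻¹)
      have h2 := Subgroup.smul_mem_pointwise_smul _ (MulAut.conj g) _ h1
      simpa [MulAut.smul_def, mul_assoc] using h2
    have hWeq : W = (P : Subgroup X) := eq_of_le_of_card_ge hWP (by rw [hP.card_four, hW.card_four])
    refine hP_odd r ?_ hro
    rw [← hWeq, ← hWc, mem_centralizer_iff]
    exact fun w hw => hcent w (hWP hw) r hr
  · haveI := hLn
    haveI := hLs
    have hd := dihSylow_of_klein P hP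
    have h8 := eight_not_dvd P hP
    rcases GW.psl_data hd L hLnc hLC hLt with ⟨⟨e⟩⟩ | ⟨F, _, _, _, ι, hnc, hodd, h3, hι, hL, hfld⟩
    · exfalso
      apply h8
      rw [Nat.card_congr e.toEquiv, nat_card_alternatingGroup, Nat.card_fin]
      norm_num [Nat.factorial]
    obtain ⟨w, hwL, hwo, -⟩ := GW.socle_involution L hLs hLnc P.2
    have h8L : ¬ 8 ∣ Nat.card L := fun h => h8 (h.trans (L.card_subgroup_dvd_card))
    have h2L : Even (Nat.card L) := even_iff_two_dvd.2 (hwo ▸ L.orderOf_dvd_natCard hwL)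
    -- the Sylow subgroup lies in `L`
    obtain ⟨T0⟩ : Nonempty (Sylow 2 ↥L) := inferInstance
    have hT0 := (S0992.result hLnc h2L h8L T0).1
    haveI := hT0
    have hPL : (P : Subgroup X) ≤ L := by
      have hm : Nat.card ((T0 : Subgroup ↥L).map L.subtype) = 4 := by
        rw [card_map_of_injective L.subtype_injective, hT0.card_four]
      obtain ⟨T, hT⟩ := (T0.2.map L.subtype).exists_le_sylow
      have hTeq : (T0 : Subgroup ↥L).map L.subtype = T := eq_of_le_of_card_ge hT (by
        rw [hm, Nat.card_congr (Sylow.equiv T P).toEquiv, hP.card_four])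
      obtain ⟨g, hg⟩ := MulAction.exists_smul_eq X T P
      intro x hx
      rw [← hg, Sylow.coe_subgroup_smul, Subgroup.mem_smul_pointwise_iff_exists] at hx
      obtain ⟨y, hy, rfl⟩ := hx
      exact hLn.conj_mem y (map_subtype_le _ (hTeq ▸ hy)) g
    set Q : Sylow 2 ↥L := P.subtype hPL with hQdef
    have hQmem : ∀ x : ↥L, x ∈ (Q : Subgroup ↥L) ↔ (x : X) ∈ (P : Subgroup X) := fun x => Iff.rfl
    obtain ⟨hQ4, hQ3⟩ := S0992.result hLnc h2L h8L Q
    haveI := hQ4
    -- two involutions of `P`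
    obtain ⟨p₁, p₂, hp1, hp2, hp12⟩ : ∃ p₁ p₂ : (P : Subgroup X), p₁ ≠ 1 ∧ p₂ ≠ 1 ∧ p₁ ≠ p₂ := by
      classical
      have := Fintype.ofFinite (P : Subgroup X)
      obtain ⟨a, b, c, -, -, -, h1, h2, h3⟩ := Finset.two_lt_card_iff.1 (show 2 < (Finset.univ :
        Finset (P : Subgroup X)).card by
          rw [Finset.card_univ, ← Nat.card_eq_fintype_card, hP.card_four]; norm_num)
      by_cases ha : a = 1
      · exact ⟨b, c, fun h => h1 (ha.trans h.symm), fun h => h2 (ha.trans h.symm), h3⟩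
      · by_cases hb : b = 1
        · exact ⟨a, c, ha, fun h => h3 (hb.trans h.symm), h2⟩
        · exact ⟨a, b, ha, hb, h1⟩
    have hord : ∀ p : (P : Subgroup X), p ≠ 1 → orderOf (p : X) = 2 := fun p hp => by
      rw [orderOf_coe]
      exact orderOf_eq_prime (by rw [pow_two]; exact IsKleinFour.mul_self p) hp
    have hRL : ∀ x ∈ R, x ∈ L → x = 1 := fun x hx hxL =>
      GW.no_four_cent (F := F) hd hnc hodd L hLs hLnc ι hι hL hfld (hord _ hp1) (hord _ hp2)
        (fun h => hp12 (Subtype.ext h))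
        (congrArg Subtype.val ((GW.klein_comm hP).is_comm.comm p₁ p₂)) hxL
        (by rw [← Nat.not_even_iff_odd, even_iff_two_dvd]; exact fun h => hR (h.trans (R.orderOf_dvd_natCard hx)))
        (hcent _ p₁.2 x hx) (hcent _ p₂.2 x hx)
    -- the centralisers of involutions in `L`
    have hCL : ∀ v : ↥L, v ∈ (Q : Subgroup ↥L) → v ≠ 1 →
        centralizer ({v} : Set ↥L) = (Q : Subgroup ↥L) := by
      intro v hv hv1
      refine le_antisymm (fun g hg => ?_) fun g hg => mem_centralizer_singleton_iff.2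
        (congrArg Subtype.val ((GW.klein_comm hQ4).is_comm.comm ⟨g, hg⟩ ⟨v, hv⟩))
      obtain ⟨r', hr', p, hp, he⟩ := hc (v : X) hv (fun h => hv1 (Subtype.ext h)) (g : X)
        (congrArg Subtype.val (mem_centralizer_singleton_iff.1 hg))
      have hr'L : r' ∈ L := by
        rw [show r' = (g : X) * p⁻¹ by rw [he]; group]
        exact mul_mem g.2 (inv_mem (hPL hp))
      rw [hQmem, he, hRL r' hr' hr'L, one_mul]
      exact hp
    set v₁ : ↥L := ⟨(p₁ : X), hPL p₁.2⟩ with hv₁
    have hv₁Q : v₁ ∈ (Q : Subgroup ↥L) := p₁.2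
    have hv₁1 : v₁ ≠ 1 := fun h => hp1 (Subtype.ext (congrArg Subtype.val h :))
    have hcard : Nat.card ↥L = 60 := by
      have h4 : Nat.card (centralizer ({v₁} : Set ↥L)) ≤ 4 := by
        rw [hCL v₁ hv₁Q hv₁1, hQ4.card_four]
      rcases SmallCent.listed_target hv₁1 h4 hLt with ⟨⟨e⟩⟩ | ⟨⟨e⟩⟩ | ⟨⟨e⟩⟩ | ⟨F', _, _, hF', ⟨e⟩⟩
      · rw [Nat.card_congr e.toEquiv, nat_card_alternatingGroup, Nat.card_fin]
        norm_num [Nat.factorial]
      · exfalso
        apply h8L
        rw [Nat.card_congr e.toEquiv, nat_card_alternatingGroup, Nat.card_fin]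
        norm_num [Nat.factorial]
      · exfalso
        apply h8L
        rw [Nat.card_congr e.toEquiv, nat_card_alternatingGroup, Nat.card_fin]
        norm_num [Nat.factorial]
      · exfalso
        classical
        apply h8L
        have h := SmallCent.card_psl F'
        rw [hF', ← Nat.card_congr e.toEquiv] at h
        norm_num at h
        omega
    have hfive : Nat.card (Sylow 2 ↥L) = 5 := by
      have hCQ : centralizer ((Q : Subgroup ↥L) : Set ↥L) = (Q : Subgroup ↥L) :=
        le_antisymm (fun g hg => hCL v₁ hv₁Q hv₁1 ▸ mem_centralizer_singleton_iff.2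
          (mem_centralizer_iff.1 hg v₁ hv₁Q).symm) fun g hg => mem_centralizer_iff.2 fun h hh =>
            congrArg Subtype.val ((GW.klein_comm hQ4).is_comm.comm ⟨h, hh⟩ ⟨g, hg⟩)
      rw [hCQ] at hQ3
      have h1 := card_mul_index (normalizer ((Q : Subgroup ↥L) : Set ↥L))
      have h2 := relIndex_mul_index (Subgroup.le_normalizer (H := (Q : Subgroup ↥L)))
      have h3 := card_mul_index (Q : Subgroup ↥L)
      rw [Sylow.card_eq_index_normalizer Q]
      rw [hQ3] at h2
      rw [hQ4.card_four, hcard] at h3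
      have h4 : (Q : Subgroup ↥L).index = 15 := by omega
      rw [h4] at h2
      show (normalizer ((Q : Subgroup ↥L) : Set ↥L)).index = 5
      omega
    -- the conjugation by `r`
    set ρ : MulAut ↥L := MulAut.conjNormal r with hρ
    have hρQ : ∀ x ∈ (Q : Subgroup ↥L), ρ x = x := fun x hx => Subtype.ext (by
      rw [hρ, MulAut.conjNormal_apply, ← hcent (x : X) hx r hr, mul_inv_cancel_right])
    have hsm : ∀ (l : ↥L) (T : Sylow 2 ↥L), ρ • (l • T) = ρ l • (ρ • T) := fun l T => by
      change ρ • (MulAut.conj l • T) = MulAut.conj (ρ l) • (ρ • T)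
      rw [← mul_smul, ← mul_smul]
      congr 1
      ext x
      simp [MulAut.mul_apply]
    have hρQ' : ρ • Q = Q := by
      refine Sylow.ext ?_
      ext x
      rw [Sylow.pointwise_smul_def, Subgroup.mem_smul_pointwise_iff_exists]
      refine ⟨?_, fun hx => ⟨x, hx, hρQ x hx⟩⟩
      rintro ⟨y, hy, rfl⟩
      rw [MulAut.smul_def, hρQ y hy]
      exact hy
    have hfree : ∀ T : Sylow 2 ↥L, T ≠ Q → ∀ x ∈ (Q : Subgroup ↥L), x • T = T → x = 1 := by
      intro T hT x hx hxT
      by_contra hx1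
      have hxn : x ∈ normalizer ((T : Subgroup ↥L) : Set ↥L) := Sylow.smul_eq_iff_mem_normalizer.1 hxT
      have hxi : x ∈ (Q : Subgroup ↥L) ⊓ (T : Subgroup ↥L) :=
        (Q.2.inf_normalizer_sylow T).le (mem_inf.2 ⟨hx, hxn⟩)
      refine hT (Sylow.ext (eq_of_le_of_card_ge (fun y hy => ?_)
        (Nat.card_congr (Sylow.equiv Q T).toEquiv).le))
      rw [← hCL x hx hx1]
      have hT4 := (S0992.result hLnc h2L h8L T).1
      exact mem_centralizer_singleton_iff.2
        (congrArg Subtype.val ((GW.klein_comm hT4).is_comm.comm ⟨y, hy⟩ ⟨x, (mem_inf.1 hxi).2⟩))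
    have hQfix : ∀ x ∈ (Q : Subgroup ↥L), x • Q = Q := fun x hx =>
      Sylow.smul_eq_iff_mem_normalizer.2 (Subgroup.le_normalizer hx)
    have hall : ∀ T : Sylow 2 ↥L, ρ • T = T := by
      intro T
      by_cases hT : T = Q
      · rw [hT, hρQ']
      let f : ↥(Q : Subgroup ↥L) → {U : Sylow 2 ↥L // U ≠ Q} := fun x => ⟨(x : ↥L) • T, fun h => hT (by
        have := congrArg (fun U => ((x : ↥L))⁻¹ • U) h
        simp only [inv_smul_smul] at this
        rw [this]; exact hQfix _ (inv_mem x.2))⟩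
      have hf : Function.Injective f := by
        intro x y h
        have h1 : ((y : ↥L)⁻¹ * x) • T = T := by
          rw [mul_smul, show (x : ↥L) • T = (y : ↥L) • T from congrArg Subtype.val h, inv_smul_smul]
        have := hfree T hT _ (mul_mem (inv_mem y.2) x.2) h1
        exact Subtype.ext (inv_mul_eq_one.1 this).symm
      have hsurj : Function.Surjective f := by
        refine (hf.bijective_of_nat_card_le ?_).2
        classical
        haveI := Fintype.ofFinite (Sylow 2 ↥L)
        rw [hQ4.card_four, Nat.card_eq_fintype_card, Fintype.card_subtype_compl,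
          Fintype.card_subtype_eq, ← Nat.card_eq_fintype_card, hfive]
      obtain ⟨p, hp⟩ := hsurj ⟨ρ • T, fun h => hT (by
        rw [← hρQ'] at h
        exact MulAction.injective ρ h)⟩
      have hp' : (p : ↥L) • T = ρ • T := congrArg Subtype.val hp
      have hk : ∀ k : ℕ, (ρ ^ k) • T = ((p : ↥L) ^ k) • T := by
        intro k
        induction k with
        | zero => simp
        | succ k ih =>
          rw [pow_succ', mul_smul, ih, hsm, hρQ _ (pow_mem p.2 k), ← hp', ← mul_smul, ← pow_succ]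
      have h1 : ρ ^ orderOf r = 1 := by
        rw [hρ, ← map_pow, pow_orderOf_eq_one, map_one]
      have h2 := hk (orderOf r)
      rw [h1, one_smul] at h2
      have hpsq : (p : ↥L) ^ orderOf r = p := by
        obtain ⟨j, hj⟩ := hro
        have hpp : (p : ↥L) ^ 2 = 1 := by
          rw [pow_two]; exact congrArg Subtype.val (IsKleinFour.mul_self p)
        rw [hj, pow_succ, pow_mul, hpp, one_pow, one_mul]
      rw [hpsq] at h2
      rw [← hp', hfree T hT _ p.2 h2.symm, one_smul]
    set κ := MulAction.toPermHom ↥L (Sylow 2 ↥L) with hκ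
    have hker : κ.ker = ⊥ := by
      rcases IsSimpleGroup.eq_bot_or_eq_top_of_normal κ.ker inferInstance with h | h
      · exact h
      · exfalso
        have : ∀ T : Sylow 2 ↥L, T = Q := fun T => by
          obtain ⟨l, rfl⟩ := MulAction.exists_smul_eq ↥L Q T
          exact congrFun (congrArg DFunLike.coe (show κ l = 1 from MonoidHom.mem_ker.1 (h ▸ mem_top l))) Q
        haveI : Subsingleton (Sylow 2 ↥L) := ⟨fun s t => (this s).trans (this t).symm⟩
        rw [Nat.card_of_subsingleton Q] at hfive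
        omega
    have hρ1 : ∀ l : ↥L, ρ l = l := by
      intro l
      have hmem : l⁻¹ * ρ l ∈ κ.ker := by
        refine MonoidHom.mem_ker.2 (Equiv.ext fun T => ?_)
        show (l⁻¹ * ρ l) • T = T
        have h1 := hsm l T
        rw [hall, hall] at h1
        rw [mul_smul, ← h1, inv_smul_smul]
      rw [hker, mem_bot, inv_mul_eq_one] at hmem
      exact hmem.symm
    have hrC : r ∈ centralizer (L : Set X) := mem_centralizer_iff.2 fun l hl => by
      have := congrArg Subtype.val (hρ1 ⟨l, hl⟩)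
      rw [hρ, MulAut.conjNormal_apply] at this
      exact (mul_inv_eq_iff_eq_mul.1 this).symm
    rw [hLC] at hrC
    exact mem_bot.1 hrC

/-- The theorem. -/
theorem klein_odd {Y : Type u} [Group Y] [Finite Y] (P : Sylow 2 Y)
    (hP : IsKleinFour (P : Subgroup Y)) (R : Subgroup Y) (hR : ¬ 2 ∣ Nat.card R)
    (hn : ∀ v ∈ (P : Subgroup Y), v ≠ 1 → centralizer ({v} : Set Y) ≤ normalizer (R : Set Y))
    (hc : ∀ v ∈ (P : Subgroup Y), v ≠ 1 → centralizer ({v} : Set Y) ≤ R ⊔ (P : Subgroup Y)) :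
    R ≤ Cfsg.oddCore Y := by
  haveI : Fact (Nat.Prime 2) := ⟨Nat.prime_two⟩
  haveI := hP
  have hd := dihSylow_of_klein P hP
  have hK := GW.knownBelow_of_simple GW.simpleDihedral.{u} (Nat.card Y + 1)
  have hlt : Nat.card Y < Nat.card Y + 1 := Nat.lt_succ_self _
  set O := Cfsg.oddCore Y with hO
  have hodd : Odd (Nat.card O) := Nat.coprime_two_right.1 (PBasic.pPrimeCore_coprime 2 Y)
  have hoddn : ¬ 2 ∣ Nat.card O := fun h =>
    Nat.not_even_iff_odd.2 hodd (even_iff_two_dvd.2 h)
  have hOR : Odd (Nat.card R) := by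
    rwa [← Nat.not_even_iff_odd, even_iff_two_dvd]
  set π := QuotientGroup.mk' O with hπ
  let Pb : Sylow 2 (Y ⧸ O) := P.mapSurjective (QuotientGroup.mk'_surjective O)
  have hPb : (Pb : Subgroup (Y ⧸ O)) = (P : Subgroup Y).map π := rfl
  have hinj : ∀ x ∈ (P : Subgroup Y), π x = 1 → x = 1 := fun x hx h => by
    have h1 := (QuotientGroup.eq_one_iff x).1 h
    obtain ⟨k, hk⟩ := P.2 ⟨x, hx⟩
    exact orderOf_eq_one_iff.1 (Nat.eq_one_of_dvd_coprimes
      (Nat.Coprime.pow_right k (Nat.coprime_two_right.2 (hodd.of_dvd_nat (O.orderOf_dvd_natCard h1))))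
      dvd_rfl (orderOf_dvd_of_pow_eq_one (congrArg Subtype.val hk)))
  have hPbK : IsKleinFour (Pb : Subgroup (Y ⧸ O)) := by
    let f : (P : Subgroup Y) →* (Pb : Subgroup (Y ⧸ O)) :=
      π.subgroupMap (P : Subgroup Y)
    have hf : Function.Bijective f := ⟨(injective_iff_map_eq_one f).2 fun x hx =>
      Subtype.ext (hinj x x.2 (congrArg Subtype.val hx)), π.subgroupMap_surjective _⟩
    refine ⟨?_, ?_⟩
    · rw [← Nat.card_eq_of_bijective f hf]; exact hP.card_four
    · refine Nat.dvd_antisymm ?_ ?_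
      · refine Monoid.exponent_dvd_of_forall_pow_eq_one fun q => ?_
        obtain ⟨x, rfl⟩ := hf.2 q
        rw [← map_pow, pow_two, IsKleinFour.mul_self, map_one]
      · refine hP.exponent_two.symm.dvd.trans (Monoid.exponent_dvd_of_forall_pow_eq_one fun x => ?_)
        exact hf.1 (by rw [map_pow, Monoid.pow_exponent_eq_one, map_one])
  have hord : ∀ v ∈ (P : Subgroup Y), v ≠ 1 → orderOf v = 2 := fun v hv hv1 =>
    orderOf_eq_prime (by rw [pow_two]; exact congrArg Subtype.val (IsKleinFour.mul_self (⟨v, hv⟩ : (P : Subgroup Y)))) hv1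
  have hcent : ∀ v ∈ (Pb : Subgroup (Y ⧸ O)), ∀ r ∈ R.map π, v * r = r * v := by
    rintro _ ⟨v, hv, rfl⟩ _ ⟨r, hr, rfl⟩
    by_cases hv1 : v = 1
    · rw [hv1, map_one, one_mul, mul_one]
    have h1 := GW.odd_invariant hK hd hlt (hord v hv hv1) hOR (hn v hv hv1) hr
    have h2 : π (r * v * r⁻¹ * v⁻¹) = 1 := (QuotientGroup.eq_one_iff _).2 h1
    rw [map_mul, map_mul, map_mul, map_inv, map_inv, mul_inv_eq_one, mul_inv_eq_iff_eq_mul] at h2
    exact h2.symm
  have hcq : ∀ v ∈ (Pb : Subgroup (Y ⧸ O)), v ≠ 1 → ∀ g : Y ⧸ O, g * v = v * g →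
      ∃ r ∈ R.map π, ∃ p ∈ (Pb : Subgroup (Y ⧸ O)), g = r * p := by
    rintro _ ⟨v, hv, rfl⟩ hv1 g hg
    obtain ⟨g, rfl⟩ := QuotientGroup.mk'_surjective O g
    have hvo := hord v hv fun e => hv1 (by rw [e, map_one])
    have hm : g * v * g⁻¹ * v⁻¹ ∈ O := by
      rw [← QuotientGroup.eq_one_iff]
      show π (g * v * g⁻¹ * v⁻¹) = 1
      rw [map_mul, map_mul, map_mul, map_inv, map_inv, hg, mul_inv_cancel_right, mul_inv_cancel]
    obtain ⟨x, hx, hxv⟩ :=
      DGroup.conj_in_odd hodd hvo (by rw [Invol.order_conj, hvo] : orderOf (g * v * g⁻¹) = 2) hm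
    have hcomm : x⁻¹ * g ∈ centralizer ({v} : Set Y) := mem_centralizer_singleton_iff.2 (by
      calc x⁻¹ * g * v = x⁻¹ * (g * v * g⁻¹) * g := by group
        _ = x⁻¹ * (x * v * x⁻¹) * g := by rw [hxv]
        _ = v * (x⁻¹ * g) := by group)
    have h2 := Subgroup.mem_map_of_mem π (hc v hv (fun e => hv1 (by rw [e, map_one])) hcomm)
    rw [Subgroup.map_sup, map_mul, map_inv, show π x = 1 from (QuotientGroup.eq_one_iff x).2 hx,
      inv_one, one_mul, ← SetLike.mem_coe, coe_mul_of_right_le_normalizer_left] at h2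
    · obtain ⟨r, hr, p, hp, he⟩ := h2
      exact ⟨r, hr, p, hp, he.symm⟩
    · intro p hp
      refine centralizer_le_normalizer _ (mem_centralizer_iff.2 fun r hr => ?_)
      exact (hcent p hp r hr).symm
  have hred := klein_reduced Pb hPbK (GW.shape_mod_core hK hd hlt) (R.map π)
    (fun h => hR (h.trans (card_map_dvd _ _))) hcent hcq
  rwa [Subgroup.map_eq_bot_iff, hπ, QuotientGroup.ker_mk'] at hred

end Cfsg.Agent.S2918Core
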