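import Cfsg.Agent.Lib.S2918Core.Closure
import Cfsg.Agent.Lib.S2918Core.Klein

/-!
The centralizer of `b` normalises the closure.
-/

set_option autoImplicit false
set_option linter.style.haveILetI false
set_option linter.unusedSectionVars false

namespace Cfsg.Agent.S2918Core

open Subgroup ClosedAbelian

universe u

variable {G : Type u} [Group G] [Finite G] {S : Sylow 2 G} {A U₁ V : Subgroup G} {z b a : G}
  {X₀ : Subgroup G} (K : Conf S A U₁ V z) (L : Loc A z b X₀ a)
include K L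

namespace Conf

/-- The four-group generated by `b` and `a`. -/
theorem V1_le : zpowers b ⊔ zpowers a ≤ A := sup_le (zpowers_le.2 L.xA) (zpowers_le.2 L.aA)

theorem mem_V1 {x : G} (hx : x ∈ zpowers b ⊔ zpowers a) :
    x = 1 ∨ x = b ∨ x = a ∨ x = a * b := by
  have hn : zpowers a ≤ normalizer (zpowers b : Set G) := zpowers_le.2
    (centralizer_le_normalizer _ (mem_centralizer_iff.2 fun y hy => by
      obtain ⟨i, rfl⟩ := mem_zpowers_iff.1 hy
      exact ((show Commute b a from K.toBase.comm L.xA L.aA).zpow_left i).eq))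
  rw [← SetLike.mem_coe, coe_mul_of_right_le_normalizer_left _ _ hn] at hx
  obtain ⟨p, hp, q, hq, rfl⟩ := hx
  have two : ∀ {w : G}, w ∈ A → ∀ {y : G}, y ∈ zpowers w → y = 1 ∨ y = w := by
    intro w hw y hy
    obtain ⟨i, rfl⟩ := mem_zpowers_iff.1 hy
    have hw2 : w ^ (2 : ℤ) = 1 := by rw [zpow_two]; exact K.toBase.sq hw
    rcases Int.even_or_odd i with ⟨j, rfl⟩ | ⟨j, rfl⟩
    · left; rw [← two_mul, zpow_mul, hw2, one_zpow]
    · right; rw [zpow_add, zpow_mul, hw2, one_zpow, one_mul, zpow_one]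
  rcases two L.xA hp with rfl | rfl <;> rcases two L.aA hq with rfl | rfl
  · exact Or.inl (one_mul 1)
  · exact Or.inr (Or.inr (Or.inl (one_mul q)))
  · exact Or.inr (Or.inl (mul_one p))
  · exact Or.inr (Or.inr (Or.inr (K.toBase.comm L.xA L.aA)))

theorem card_V1 : Nat.card ↥(zpowers b ⊔ zpowers a : Subgroup G) = 4 := by
  classical
  have hb : b ∈ zpowers b ⊔ zpowers a := mem_sup_left (mem_zpowers b)
  have ha : a ∈ zpowers b ⊔ zpowers a := mem_sup_right (mem_zpowers a)
  have hab1 : a * b ≠ 1 := fun h => L.ax (by rw [mul_eq_one_iff_eq_inv.1 h, K.toBase.inv L.xA])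
  have he : ((zpowers b ⊔ zpowers a : Subgroup G) : Set G) = ↑({1, b, a, a * b} : Finset G) := by
    ext x
    simp only [SetLike.mem_coe, Finset.coe_insert, Finset.coe_singleton, Set.mem_insert_iff,
      Set.mem_singleton_iff]
    refine ⟨(K.mem_V1 L), ?_⟩
    rintro (rfl | rfl | rfl | rfl)
    exacts [one_mem _, hb, ha, mul_mem ha hb]
  rw [← SetLike.coe_sort_coe, he, Finset.coe_sort_coe, Nat.card_eq_finsetCard,
    Finset.card_insert_of_notMem, Finset.card_insert_of_notMem, Finset.card_pair]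
  · intro h; exact L.x1 (left_eq_mul.1 h)
  · simp only [Finset.mem_insert, Finset.mem_singleton]
    rintro (h | h)
    · exact L.ax h.symm
    · exact L.a1 (right_eq_mul.1 h)
  · simp only [Finset.mem_insert, Finset.mem_singleton]
    rintro (h | h | h)
    exacts [L.x1 h.symm, L.a1 h.symm, hab1 h.symm]

/-- An element of the subgroup does not move an element of `A` within its coset of the four-group. -/
theorem fix_coset {H : Subgroup G} (hH : H ≤ centralizer ((zpowers b ⊔ zpowers a : Subgroup G) : Set G))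
    (hAH : A ≤ H) (hodd : ¬ 2 ∣ A.relIndex H) {v e g : G} (hv : v ∈ A)
    (he : e ∈ zpowers b ⊔ zpowers a) (hg : g ∈ H) (hge : g * v * g⁻¹ = v * e) : e = 1 := by
  haveI : Fact (Nat.Prime 2) := ⟨Nat.prime_two⟩
  let P : Sylow 2 ↥H := (K.toBase.isP.comap_subtype (K := H)).toSylow (by rwa [Subgroup.relIndex] at hodd)
  have hP : IsMulCommutative ↥(P : Subgroup ↥H) := ⟨⟨fun p q => Subtype.ext (Subtype.ext
    (K.toBase.comm (show ((p : ↥H) : G) ∈ A from p.2) (show ((q : ↥H) : G) ∈ A from q.2)))⟩⟩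
  have hgA : g * v * g⁻¹ ∈ A := hge ▸ mul_mem hv ((K.V1_le L) he)
  obtain ⟨n, hn, hne⟩ := AbelianSylow.fusion_normalizer P hP ⟨v, hAH hv⟩ (show v ∈ A from hv)
    ⟨g, hg⟩ (show g * v * g⁻¹ ∈ A from hgA)
  have hnN : (n : G) ∈ normalizer (A : Set G) := by
    refine mem_normalizer_iff.2 fun y => ⟨fun hy => ?_, fun hy => ?_⟩
    · exact (mem_normalizer_iff.1 hn ⟨y, hAH hy⟩).1 hy
    · have hy' : y ∈ H := by
        simpa [mul_assoc] using mul_mem (mul_mem (inv_mem n.2) (hAH hy)) n.2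
      exact (mem_normalizer_iff.1 hn ⟨y, hy'⟩).2 hy
  obtain ⟨u, w, huw, hu, hw, hu2, hw2⟩ := exists_parts (n : G)
  have huA : u ∈ A := K.toBase.mem_A_of_two hAH hodd (zpowers_le.2 n.2 hu) (zpowers_le.2 hnN hu) hu2
  have hne' : (n : G) * v * (n : G)⁻¹ = v * e := by
    have := congrArg Subtype.val hne
    simp only [Subgroup.coe_mul, Subgroup.coe_inv] at this
    rw [this, hge]
  have hwe : w * v * w⁻¹ = v * e := by
    have h1 : w * v * w⁻¹ ∈ A := (mem_normalizer_iff.1 (zpowers_le.2 hnN hw) v).1 hv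
    rw [← huw] at hne'
    rw [show u * w * v * (u * w)⁻¹ = u * (w * v * w⁻¹) * u⁻¹ by group, K.toBase.comm huA h1,
      mul_inv_cancel_right] at hne'
    exact hne'
  have hwe1 : w * e * w⁻¹ = e := by
    rw [← mem_centralizer_iff.1 (hH (zpowers_le.2 n.2 hw)) e he, mul_inv_cancel_right]
  have hk : ∀ k : ℕ, w ^ k * v * (w ^ k)⁻¹ = v * e ^ k := by
    intro k
    induction k with
    | zero => simp
    | succ k ih =>
      rw [pow_succ' w, show w * w ^ k * v * (w * w ^ k)⁻¹ = w * (w ^ k * v * (w ^ k)⁻¹) * w⁻¹ by group,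
        ih, show w * (v * e ^ k) * w⁻¹ = w * v * w⁻¹ * (w * e ^ k * w⁻¹) by group, hwe, ← conj_pow,
        hwe1, mul_assoc, ← pow_succ']
  have h1 := hk (orderOf w)
  rw [pow_orderOf_eq_one, one_mul, inv_one, mul_one, left_eq_mul] at h1
  obtain ⟨j, hj⟩ := hw2
  have he2 : e ^ 2 = 1 := K.ea.2 e ((K.V1_le L) he)
  rwa [hj, pow_succ, pow_mul, he2, one_pow, one_mul] at h1

/-- The odd part of the intersection of the closure with `C(b)` lies in the odd core, if `a` is not
2-central. -/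
theorem theta_inter_second (hkind : ¬ IsConj z (a * b) ∧
    ∀ v ∈ A, v ≠ 1 → v ≠ b → v ≠ a → v ≠ a * b →
      IsConj z v ∨ IsConj z (v * b) ∨ IsConj z (v * a) ∨ IsConj z (v * (a * b))) :
    theta V ⊓ centralizer ({b} : Set G) ≤ core (centralizer ({b} : Set G)) := by
  haveI : Fact (Nat.Prime 2) := ⟨Nat.prime_two⟩
  have hXb := L.le
  have hXn := L.norm
  have hAX := L.AX
  have hodd := L.odd
  obtain ⟨D₀, hD2, -, hDX, hXtop⟩ := L.top
  set X := centralizer ({b} : Set G) with hX
  set H := X₀ ⊓ centralizer ({a} : Set G) with hH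
  set V₁ := zpowers b ⊔ zpowers a with hV₁
  have hAH : A ≤ H := le_inf hAX (K.toBase.leC L.aA)
  have hHV : H ≤ centralizer (V₁ : Set G) := fun g hg => mem_centralizer_iff.2 fun y hy =>
    mem_centralizer_singleton_iff.1 ((sup_le
      (zpowers_le.2 (mem_centralizer_singleton_iff.2 (mem_centralizer_singleton_iff.1
        (hXb (mem_inf.1 hg).1)).symm))
      (zpowers_le.2 (mem_centralizer_singleton_iff.2 (mem_centralizer_singleton_iff.1
        (mem_inf.1 hg).2).symm)) : V₁ ≤ centralizer ({g} : Set G)) hy)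
  have hHodd : ¬ 2 ∣ A.relIndex H := fun h => hodd (h.trans (by
    rw [← relIndex_mul_relIndex A H X₀ hAH inf_le_left]
    exact Dvd.intro _ rfl))
  have hVH : V₁ ≤ H := (K.V1_le L).trans hAH
  set N₁ := V₁.subgroupOf H with hN₁
  haveI : N₁.Normal := ⟨fun y hy g => by
    have : (g : G) * y * (g : G)⁻¹ = y := by
      rw [← mem_centralizer_iff.1 (hHV g.2) (y : G) hy, mul_inv_cancel_right]
    show ((g * y * g⁻¹ : ↥H) : G) ∈ V₁
    rw [Subgroup.coe_mul, Subgroup.coe_mul, Subgroup.coe_inv, this]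
    exact hy⟩
  set π := QuotientGroup.mk' N₁ with hπ
  let PA : Sylow 2 ↥H := (K.toBase.isP.comap_subtype (K := H)).toSylow (by rwa [Subgroup.relIndex] at hHodd)
  have hPA : (PA : Subgroup ↥H) = A.subgroupOf H := rfl
  let P : Sylow 2 (↥H ⧸ N₁) := PA.mapSurjective (QuotientGroup.mk'_surjective N₁)
  have hP : (P : Subgroup (↥H ⧸ N₁)) = (A.subgroupOf H).map π := rfl
  have hPK : IsKleinFour (P : Subgroup (↥H ⧸ N₁)) := by
    have h4 : Nat.card (P : Subgroup (↥H ⧸ N₁)) = 4 := by
      have e1 : Nat.card (P : Subgroup (↥H ⧸ N₁)) = V₁.relIndex A := by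
        rw [hP, ← relIndex_ker, hπ, QuotientGroup.ker_mk', hN₁, relIndex_subgroupOf hAH]
      have h2 := relIndex_mul_relIndex ⊥ V₁ A bot_le (K.V1_le L)
      rw [relIndex_bot_left, relIndex_bot_left, hV₁, (K.card_V1 L), K.cardA, ← hV₁] at h2
      omega
    have h1 : Monoid.exponent (P : Subgroup (↥H ⧸ N₁)) ∣ 2 :=
      Monoid.exponent_dvd_of_forall_pow_eq_one fun q => by
        obtain ⟨x, hx, hxq⟩ := q.2
        refine Subtype.ext ?_
        rw [SubmonoidClass.coe_pow, ← hxq, ← map_pow, show x ^ 2 = 1 from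
          Subtype.ext (K.ea.2 (x : G) hx), map_one]
        rfl
    refine ⟨h4, ((Nat.dvd_prime Nat.prime_two).1 h1).resolve_left fun h => ?_⟩
    haveI := Monoid.exp_eq_one_iff.1 h
    rw [Nat.card_of_subsingleton (1 : (P : Subgroup (↥H ⧸ N₁)))] at h4
    omega
  set R₀ := (theta V ⊓ H).subgroupOf H with hR₀
  have hR₀odd : ¬ 2 ∣ Nat.card R₀ := by
    rw [hR₀, Nat.card_congr (subgroupOfEquivOfLe (inf_le_right : theta V ⊓ H ≤ H)).toEquiv]
    exact fun h => K.theta_odd (h.trans (card_dvd_of_le inf_le_left))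
  -- the centralizers in the quotient lift
  have key : ∀ (v : G) (hv : v ∈ A), π ⟨v, hAH hv⟩ ≠ 1 →
      ∀ g : ↥H, π g * π ⟨v, hAH hv⟩ = π ⟨v, hAH hv⟩ * π g →
      (g : G) ∈ normalizer (theta V : Set G) ∧ g ∈ R₀ ⊔ A.subgroupOf H := by
    intro v hv hv1 g hg
    have hvV : v ∉ V₁ := fun h => hv1 ((QuotientGroup.eq_one_iff _).2 h)
    -- the element commutes with `v`
    have hgv : (g : G) * v * (g : G)⁻¹ = v := by
      have h1 : g * ⟨v, hAH hv⟩ * g⁻¹ * (⟨v, hAH hv⟩ : ↥H)⁻¹ ∈ N₁ := by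
        rw [← QuotientGroup.eq_one_iff]
        show π _ = 1
        rw [map_mul, map_mul, map_mul, map_inv, map_inv, hg, mul_inv_cancel_right, mul_inv_cancel]
      have h2 : (g : G) * v * (g : G)⁻¹ * v⁻¹ ∈ V₁ := h1
      have h3 := K.fix_coset L hHV hAH hHodd hv h2 g.2 (by
        rw [← K.toBase.comm ((K.V1_le L) h2) hv, inv_mul_cancel_right])
      exact mul_inv_eq_one.1 h3
    -- a 2-central element of the coset
    obtain ⟨c, hc, hvc⟩ : ∃ c ∈ V₁, IsConj z (v * c) := by
      have hne : ∀ y ∈ V₁, v ≠ y := fun y hy e => hvV (e ▸ hy)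
      have hbV : b ∈ V₁ := mem_sup_left (mem_zpowers b)
      have haV : a ∈ V₁ := mem_sup_right (mem_zpowers a)
      rcases hkind.2 v hv (hne 1 (one_mem _)) (hne b hbV) (hne a haV) (hne _ (mul_mem haV hbV))
        with h | h | h | h
      · exact ⟨1, one_mem _, by rwa [mul_one]⟩
      · exact ⟨b, hbV, h⟩
      · exact ⟨a, haV, h⟩
      · exact ⟨a * b, mul_mem haV hbV, h⟩
    have hvA : v * c ∈ A := mul_mem hv ((K.V1_le L) hc)
    set D := H ⊓ centralizer ({v * c} : Set G) with hD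
    have hgD : (g : G) ∈ D := mem_inf.2 ⟨g.2, mem_centralizer_singleton_iff.2
      ((show Commute (g : G) v from mul_inv_eq_iff_eq_mul.1 hgv).mul_right
        (show Commute (g : G) c from (mem_centralizer_iff.1 (hHV g.2) c hc).symm)).eq⟩
    refine ⟨K.cent_conj_z hvA hvc (mem_inf.1 hgD).2, ?_⟩
    have hAD : A ≤ D := le_inf hAH (K.toBase.leC hvA)
    have hDodd : ¬ 2 ∣ A.relIndex D := fun h => hHodd (h.trans (by
      rw [← relIndex_mul_relIndex A D H hAD inf_le_left]
      exact Dvd.intro _ rfl))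
    have hfix : ∀ n ∈ D, n ∈ normalizer (A : Set G) → Odd (orderOf n) → n ∈ centralizer (A : Set G) := by
      intro n hn hnN hno
      set E := V₁ ⊔ zpowers (v * c) with hE
      have hEA : E ≤ A := sup_le (K.V1_le L) (zpowers_le.2 hvA)
      have hEn : E ≤ centralizer ({n} : Set G) := sup_le
        (fun y hy => mem_centralizer_singleton_iff.2 (mem_centralizer_iff.1 (hHV (mem_inf.1 hn).1) y hy))
        (zpowers_le.2 (mem_centralizer_singleton_iff.2
          (mem_centralizer_singleton_iff.1 (mem_inf.1 hn).2).symm))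
      have hEi : (E.subgroupOf A).index ≤ 2 := by
        have h1 := relIndex_mul_relIndex ⊥ E A bot_le hEA
        rw [relIndex_bot_left, relIndex_bot_left, K.cardA] at h1
        have h2 : 4 < Nat.card E := by
          rw [← (K.card_V1 L)]
          refine lt_of_le_of_ne (card_le_of_le le_sup_left) fun h => hvV ?_
          have := eq_of_le_of_card_ge (le_sup_left : V₁ ≤ E) h.ge
          have h3 : v * c ∈ V₁ := this ▸ mem_sup_right (mem_zpowers _)
          simpa using mul_mem h3 (inv_mem hc)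
        show E.relIndex A ≤ 2
        by_contra h3
        have : 5 * 3 ≤ Nat.card E * E.relIndex A := Nat.mul_le_mul h2 (not_le.1 h3)
        obtain ⟨j, hj⟩ := (K.toBase.isP.to_le hEA).exists_card_eq
        rw [hj] at h1 h2
        have : 2 ^ 3 ≤ 2 ^ j := Nat.pow_le_pow_right two_pos (by
          by_contra h4
          have : 2 ^ j ≤ 2 ^ 2 := Nat.pow_le_pow_right two_pos (by omega)
          omega)
        have : 8 * 3 ≤ 2 ^ j * E.relIndex A := Nat.mul_le_mul this (not_le.1 h3)
        omega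
      refine mem_centralizer_iff.2 fun y hy => ?_
      by_cases hyE : y ∈ E
      · exact mem_centralizer_singleton_iff.1 (hEn hyE)
      have hy' : n * y * n⁻¹ ∈ A := (mem_normalizer_iff.1 hnN y).1 hy
      have hy'E : n * y * n⁻¹ ∉ E := fun h => hyE (by
        have h1 := mem_centralizer_singleton_iff.1 (hEn h)
        have h2 : n * y * n⁻¹ = y := by
          calc n * y * n⁻¹ = n⁻¹ * (n * (n * y * n⁻¹)) := by group
            _ = n⁻¹ * (n * y * n⁻¹ * n) := by rw [h1]
            _ = y := by group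
        rwa [h2] at h)
      have hidx : (E.subgroupOf A).index = 2 := by
        have h1 : (E.subgroupOf A).index ≠ 1 := fun h => hyE (relIndex_eq_one.1 h hy)
        have h2 : (E.subgroupOf A).index ≠ 0 := index_ne_zero_of_finite
        omega
      have he : y * (n * y * n⁻¹) ∈ E :=
        (mul_mem_iff_of_index_two hidx (a := (⟨y, hy⟩ : ↥A)) (b := ⟨_, hy'⟩)).2
          ⟨fun h => absurd h hyE, fun h => absurd h hy'E⟩
      set e := y * (n * y * n⁻¹) with hedef
      have hne : n * y * n⁻¹ = y * e := by rw [hedef, ← mul_assoc, K.toBase.sq hy, one_mul]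
      have hnec : n * e * n⁻¹ = e := mul_inv_eq_iff_eq_mul.2 (mem_centralizer_singleton_iff.1 (hEn he)).symm
      have hk : ∀ k : ℕ, n ^ k * y * (n ^ k)⁻¹ = y * e ^ k := by
        intro k
        induction k with
        | zero => simp
        | succ k ih =>
          rw [pow_succ' n, show n * n ^ k * y * (n * n ^ k)⁻¹ = n * (n ^ k * y * (n ^ k)⁻¹) * n⁻¹ by group,
            ih, show n * (y * e ^ k) * n⁻¹ = n * y * n⁻¹ * (n * e ^ k * n⁻¹) by group, hne, ← conj_pow,
            hnec, mul_assoc, ← pow_succ']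
      have h1 := hk (orderOf n)
      rw [pow_orderOf_eq_one, one_mul, inv_one, mul_one, left_eq_mul] at h1
      obtain ⟨j, hj⟩ := hno
      rw [hj, pow_succ, pow_mul, K.ea.2 e (hEA he), one_pow, one_mul] at h1
      rw [h1, mul_one, mul_inv_eq_iff_eq_mul] at hne
      exact hne.symm
    have hsup := (A8Type.le_core_sup_abelian (Y := D) K.toBase.isP hAD hDodd K.ea.1 hfix).2 hgD
    have hcore : core D ≤ theta V ⊓ H := by
      refine le_inf ?_ ((core_le D).trans inf_le_left)
      haveI := solvable_cent_conj hvc K.sol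
      refine le_trans ?_ (K.core_le_A hvA)
      refine solv_core_le (U := V₁) (K.toBase.isP.to_le (K.V1_le L)) ((K.V1_le L).trans (K.toBase.leC hvA))
        ((core_le D).trans inf_le_right)
        (((core_le D).trans inf_le_left).trans hHV) ?_ (core_odd D)
      intro w hw
      obtain ⟨hw1, hw2⟩ := mem_inf.1 hw
      refine normalizer_le_normalizer_core D ?_
      have hwb : w ∈ X := mem_centralizer_singleton_iff.2
        (mem_centralizer_iff.1 hw2 b (mem_sup_left (mem_zpowers b))).symm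
      have hwa : w ∈ centralizer ({a} : Set G) := mem_centralizer_singleton_iff.2
        (mem_centralizer_iff.1 hw2 a (mem_sup_right (mem_zpowers a))).symm
      exact inf_normalizer_le_normalizer_inf (mem_inf.2 ⟨inf_normalizer_le_normalizer_inf
        (mem_inf.2 ⟨hXn hwb, Subgroup.le_normalizer hwa⟩), Subgroup.le_normalizer hw1⟩)
    have h2 := sup_le_sup_right hcore A hsup
    have h3 : (g : G) ∈ (R₀ ⊔ A.subgroupOf H).map H.subtype := by
      rw [Subgroup.map_sup, hR₀, map_subgroupOf_eq_of_le inf_le_right, map_subgroupOf_eq_of_le hAH]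
      exact h2
    obtain ⟨g', hg', he⟩ := h3
    exact (Subtype.ext he : g' = g) ▸ hg'
  have hklein : R₀.map π ≤ Cfsg.oddCore (↥H ⧸ N₁) := by
    refine klein_odd P hPK _ (fun h => hR₀odd (h.trans (card_map_dvd _ _))) ?_ ?_
    · intro v hv hv1 q hq
      rw [hP] at hv
      obtain ⟨⟨x, hxH⟩, hxA, rfl⟩ := hv
      obtain ⟨g, rfl⟩ := QuotientGroup.mk'_surjective N₁ q
      have hgn : (g : G) ∈ normalizer (theta V : Set G) :=
        (key x hxA hv1 g (mem_centralizer_singleton_iff.1 hq)).1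
      refine le_normalizer_map π ⟨g, ?_, rfl⟩
      refine mem_normalizer_iff.2 fun w => ?_
      have hgH : (g : G) ∈ normalizer ((theta V ⊓ H : Subgroup G) : Set G) :=
        inf_normalizer_le_normalizer_inf (mem_inf.2 ⟨hgn, Subgroup.le_normalizer g.2⟩)
      exact mem_normalizer_iff.1 hgH (w : G)
    · intro v hv hv1 q hq
      rw [hP] at hv ⊢
      obtain ⟨⟨x, hxH⟩, hxA, rfl⟩ := hv
      obtain ⟨g, rfl⟩ := QuotientGroup.mk'_surjective N₁ q
      have := mem_map_of_mem π (key x hxA hv1 g (mem_centralizer_singleton_iff.1 hq)).2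
      rwa [Subgroup.map_sup] at this
  -- back to `H`
  have hHcore : theta V ⊓ H ≤ core H := by
    set N' := ((Cfsg.oddCore (↥H ⧸ N₁)).comap π).map H.subtype with hN'
    have hN'H : N' ≤ H := map_subtype_le _
    have hN'n : H ≤ normalizer (N' : Set G) := by
      haveI := FittingCores.pPrimeCore_normal (G := ↥H ⧸ N₁) 2
      haveI : ((Cfsg.oddCore (↥H ⧸ N₁)).comap π).Normal := inferInstance
      have h := le_normalizer_map (H := (Cfsg.oddCore (↥H ⧸ N₁)).comap π) H.subtype
      rwa [normalizer_eq_top, ← MonoidHom.range_eq_map, range_subtype] at h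
    have hVN : V₁ ≤ N' := fun y hy => ⟨⟨y, hVH hy⟩, by
      show π ⟨y, hVH hy⟩ ∈ Cfsg.oddCore (↥H ⧸ N₁)
      rw [show π ⟨y, hVH hy⟩ = 1 from (QuotientGroup.eq_one_iff _).2 hy]
      exact one_mem _, rfl⟩
    have hidx : ¬ 2 ∣ V₁.relIndex N' := by
      rw [hN', ← map_subgroupOf_eq_of_le hVH, relIndex_map_map_of_injective _ _ H.subtype_injective]
      have e1 : N₁.relIndex ((Cfsg.oddCore (↥H ⧸ N₁)).comap π) = Nat.card (Cfsg.oddCore (↥H ⧸ N₁)) := by
        have e2 := relIndex_ker ((Cfsg.oddCore (↥H ⧸ N₁)).comap π) π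
        rwa [map_comap_eq_self_of_surjective (QuotientGroup.mk'_surjective N₁),
          show π.ker = N₁ from QuotientGroup.ker_mk' N₁] at e2
      rw [← hN₁, e1]
      exact fun h => Nat.prime_two.coprime_iff_not_dvd.1 (PBasic.pPrimeCore_coprime 2 _).symm h
    have hab := (A8Type.le_core_sup_abelian (Y := N') (K.toBase.isP.to_le (K.V1_le L)) hVN hidx
      ⟨⟨fun p q => Subtype.ext (K.toBase.comm ((K.V1_le L) p.2) ((K.V1_le L) q.2))⟩⟩
      fun g hg _ _ => hHV (hN'H hg)).1
    intro r hr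
    have hrN : r ∈ N' := ⟨⟨r, (mem_inf.1 hr).2⟩, hklein ⟨_, hr, rfl⟩, rfl⟩
    have h1 := hab r hrN (odd_orderOf_of_mem (fun h => K.theta_odd (h.trans (card_dvd_of_le inf_le_left))) hr)
    exact mem_core_of_mem ((core_le N').trans hN'H) (hN'n.trans (normalizer_le_normalizer_core N'))
      (core_odd N') h1
  -- back to `C(b)`
  intro r hr
  obtain ⟨hrθ, hrX⟩ := mem_inf.1 hr
  have hro : Odd (orderOf r) := odd_orderOf_of_mem K.theta_odd hrθ
  have hcX0 : core X₀ ≤ core X := le_core ((core_le _).trans hXb)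
    (hXn.trans (normalizer_le_normalizer_core X₀)) (core_odd X₀)
  have hrX0 : r ∈ X₀ := by
    set N := X₀.subgroupOf X with hN
    haveI : N.Normal := normal_subgroupOf_of_le_normalizer hXn
    have h1 := hXtop hrX
    rw [← SetLike.mem_coe, coe_mul_of_right_le_normalizer_left X₀ _
      (hDX.trans hXn)] at h1
    obtain ⟨o, ho, t, ht, he⟩ := h1
    set ψ := QuotientGroup.mk' N with hψ
    have heq : ψ ⟨r, hrX⟩ = ψ ⟨t, (hDX ht)⟩ := by
      rw [show (⟨r, hrX⟩ : ↥X) = ⟨o, hXb ho⟩ * ⟨t, (hDX ht)⟩ from Subtype.ext he.symm,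
        map_mul, show ψ ⟨o, hXb ho⟩ = 1 from (QuotientGroup.eq_one_iff _).2 ho, one_mul]
    obtain ⟨k, hk⟩ := TwoEl.of_group hD2 ht
    have hd1 : orderOf (ψ ⟨r, hrX⟩) ∣ 2 ^ k := by
      rw [heq]
      refine orderOf_dvd_of_pow_eq_one ?_
      rw [← map_pow, show (⟨t, (hDX ht)⟩ : ↥X) ^ 2 ^ k = 1 from Subtype.ext hk, map_one]
    have hd2 : orderOf (ψ ⟨r, hrX⟩) ∣ orderOf r := by
      refine (orderOf_map_dvd ψ _).trans ?_
      rw [orderOf_mk]
    have h2 : ψ ⟨r, hrX⟩ = 1 := orderOf_eq_one_iff.1 (Nat.eq_one_of_dvd_coprimes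
      (Nat.Coprime.pow_left k (Nat.coprime_two_left.2 hro)) hd1 hd2)
    exact (QuotientGroup.eq_one_iff (⟨r, hrX⟩ : ↥X)).1 h2
  have h1 := K.toBase.X0_le L hrX0
  rw [← SetLike.mem_coe, coe_mul_of_right_le_normalizer_left (core X₀) _
    ((inf_le_left : H ≤ X₀).trans (core_normalized X₀))] at h1
  obtain ⟨o, ho, h, hh, he⟩ := h1
  have hoθ : o ∈ theta V := K.core_le_A L.xA (hcX0 ho)
  have hhθ : h ∈ theta V := by
    rw [show h = o⁻¹ * r by rw [← he]; group]
    exact mul_mem (inv_mem hoθ) hrθ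
  have hhc : h ∈ core H := hHcore (mem_inf.2 ⟨hhθ, hh⟩)
  have hHH : core H ≤ X₀ := (core_le H).trans inf_le_left
  have hn : X₀ ≤ normalizer ((core H ⊔ core X₀ : Subgroup G) : Set G) := by
    refine (K.toBase.X0_le L).trans (sup_le (le_sup_right.trans Subgroup.le_normalizer) ?_)
    exact (le_inf (core_normalized H) (inf_le_left.trans (core_normalized X₀))).trans
      (normalizer_inf_normalizer_le_normalizer_sup _ _)
  have hsupc : core H ⊔ core X₀ ≤ core X₀ :=
    le_core (sup_le hHH (core_le _)) hn (sup_core_odd hHH (core_odd H))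
  rw [← he]
  exact hcX0 (mul_mem ho (hsupc (mem_sup_left hhc)))

/-- The odd part of the intersection of the closure with `C(b)` lies in the odd core. -/
theorem theta_inter_b : theta V ⊓ centralizer ({b} : Set G) ≤ core (centralizer ({b} : Set G)) := by
  rcases L.kind with hza | ⟨-, hzab, hco⟩
  swap
  · exact K.theta_inter_second L ⟨hzab, hco⟩
  haveI := K.toBase.solvable_x L (solvable_cent_conj hza K.sol)
  set X := centralizer ({b} : Set G) with hX
  obtain ⟨D₀, hD2, -, hDX, hXtop⟩ := L.top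
  set N := X₀.subgroupOf X with hN
  haveI : N.Normal := normal_subgroupOf_of_le_normalizer L.norm
  intro r hr
  obtain ⟨hrθ, hrX⟩ := mem_inf.1 hr
  have hro : Odd (orderOf r) := odd_orderOf_of_mem K.theta_odd hrθ
  have hrX0 : r ∈ X₀ := by
    have h1 := hXtop hrX
    rw [← SetLike.mem_coe, coe_mul_of_right_le_normalizer_left X₀ _ (hDX.trans L.norm)] at h1
    obtain ⟨o, ho, t, ht, he⟩ := h1
    set ψ := QuotientGroup.mk' N with hψ
    have heq : ψ ⟨r, hrX⟩ = ψ ⟨t, hDX ht⟩ := by
      rw [show (⟨r, hrX⟩ : ↥X) = ⟨o, L.le ho⟩ * ⟨t, hDX ht⟩ from Subtype.ext he.symm,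
        map_mul, show ψ ⟨o, L.le ho⟩ = 1 from (QuotientGroup.eq_one_iff _).2 ho, one_mul]
    obtain ⟨k, hk⟩ := TwoEl.of_group hD2 ht
    have hd1 : orderOf (ψ ⟨r, hrX⟩) ∣ 2 ^ k := by
      rw [heq]
      refine orderOf_dvd_of_pow_eq_one ?_
      rw [← map_pow, show (⟨t, hDX ht⟩ : ↥X) ^ 2 ^ k = 1 from Subtype.ext hk, map_one]
    have hd2 : orderOf (ψ ⟨r, hrX⟩) ∣ orderOf r := by
      refine (orderOf_map_dvd ψ _).trans ?_
      rw [orderOf_mk]
    have h2 : ψ ⟨r, hrX⟩ = 1 := orderOf_eq_one_iff.1 (Nat.eq_one_of_dvd_coprimes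
      (Nat.Coprime.pow_left k (Nat.coprime_two_left.2 hro)) hd1 hd2)
    exact (QuotientGroup.eq_one_iff (⟨r, hrX⟩ : ↥X)).1 h2
  have hcX0 : core X₀ ≤ core X := le_core ((core_le _).trans L.le)
    (L.norm.trans (normalizer_le_normalizer_core X₀)) (core_odd X₀)
  have h1 := K.toBase.X0_le L hrX0
  rw [← SetLike.mem_coe, coe_mul_of_right_le_normalizer_left (core X₀) _
    ((inf_le_left : X₀ ⊓ centralizer ({a} : Set G) ≤ X₀).trans (core_normalized X₀))] at h1
  obtain ⟨o, ho, h, hh, he⟩ := h1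
  have hhθ : h ∈ theta V := by
    rw [show h = o⁻¹ * r by rw [← he]; group]
    exact mul_mem (inv_mem (K.core_le_A L.xA (hcX0 ho))) hrθ
  obtain ⟨hh0, hha⟩ := mem_inf.1 hh
  have hhc : h ∈ core (centralizer ({a} : Set G)) := K.theta_conj_z L.aA hza (mem_inf.2 ⟨hhθ, hha⟩)
  rw [← he]
  exact mul_mem (hcX0 ho) (balance (K.toBase.sq L.aA)
    (mem_centralizer_singleton_iff.2 (K.toBase.comm L.aA L.xA)) (mem_inf.2 ⟨hhc, L.le hh0⟩))

omit L in
theorem theta_inter {x : G} (hx : x ∈ A) (hx1 : x ≠ 1) :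
    theta V ⊓ centralizer ({x} : Set G) ≤ core (centralizer ({x} : Set G)) := by
  by_cases hzx : IsConj z x
  · exact K.theta_conj_z hx hzx
  · obtain ⟨X₁, a₁, L₁⟩ := K.loc x hx hx1 hzx
    exact K.theta_inter_b L₁

/-- `C(b)` normalises the closure. -/
theorem cent_b : centralizer ({b} : Set G) ≤ normalizer (theta V : Set G) := by
  obtain ⟨D₀, -, hDN, -, hXtop⟩ := L.top
  have hcX0 : core X₀ ≤ core (centralizer ({b} : Set G)) := le_core ((core_le _).trans L.le)
    (L.norm.trans (normalizer_le_normalizer_core X₀)) (core_odd X₀)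
  suffices hHM : X₀ ⊓ centralizer ({a} : Set G) ≤ normalizer (theta V : Set G) by
    refine hXtop.trans (sup_le ((K.toBase.X0_le L).trans (sup_le ?_ hHM)) (hDN.trans K.NA_le_M))
    exact (hcX0.trans (K.core_le_A L.xA)).trans Subgroup.le_normalizer
  rcases L.kind with hza | -
  · exact inf_le_right.trans (K.cent_conj_z L.aA hza)
  have hab : a * b ∈ A := mul_mem L.aA L.xA
  set Cb := core (centralizer ({b} : Set G))
  set Ca := core (centralizer ({a} : Set G))
  set Cab := core (centralizer ({a * b} : Set G))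
  have hle : Cb ⊔ Ca ⊔ Cab ≤ theta V :=
    sup_le (sup_le (K.core_le_A L.xA) (K.core_le_A L.aA)) (K.core_le_A hab)
  have hge : theta V ≤ Cb ⊔ Ca ⊔ Cab := by
    refine le_of_cent (V := zpowers b ⊔ zpowers a)
      ⟨⟨⟨fun p q => Subtype.ext (K.toBase.comm ((K.V1_le L) p.2) ((K.V1_le L) q.2))⟩⟩,
        fun p hp => K.ea.2 p ((K.V1_le L) hp)⟩ (K.card_V1 L).ge ((K.V1_le L).trans K.A_le_M)
      K.theta_odd ?_
    intro v hv hv1
    rcases (K.mem_V1 L) hv with rfl | rfl | rfl | rfl
    · exact absurd rfl hv1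
    · exact (K.theta_inter L.xA hv1).trans (le_sup_left.trans le_sup_left)
    · exact (K.theta_inter L.aA hv1).trans (le_sup_right.trans le_sup_left)
    · exact (K.theta_inter hab hv1).trans le_sup_right
  rw [le_antisymm hge hle]
  intro h hh
  obtain ⟨hhX, hha⟩ := mem_inf.1 hh
  have h1 := mem_centralizer_singleton_iff.1 (L.le hhX)
  have h2 := mem_centralizer_singleton_iff.1 hha
  have h3 : h ∈ centralizer ({a * b} : Set G) := mem_centralizer_singleton_iff.2
    ((show Commute h a from h2).mul_right (show Commute h b from h1)).eq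
  exact normalizer_inf_normalizer_le_normalizer_sup _ _ (mem_inf.2
    ⟨normalizer_inf_normalizer_le_normalizer_sup _ _
      (mem_inf.2 ⟨core_normalized _ (L.le hhX), core_normalized _ hha⟩), core_normalized _ h3⟩)

omit L in
/-- The centralizers of the involutions of `A` normalise the closure. -/
theorem cent_A {y : G} (hy : y ∈ A) (hy1 : y ≠ 1) :
    centralizer ({y} : Set G) ≤ normalizer (theta V : Set G) := by
  by_cases hzy : IsConj z y
  · exact K.cent_conj_z hy hzy
  · obtain ⟨X₁, a₁, L₁⟩ := K.loc y hy hy1 hzy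
    exact K.cent_b L₁

end Conf

end Cfsg.Agent.S2918Core
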