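import Cfsg.Agent.Lib.S2918Core.CentB2

/-!
The subgroup generated by the odd cores of the centralizers of the involutions of the four-group, and
its normalizer.
-/

set_option autoImplicit false
set_option linter.style.haveILetI false
set_option linter.unusedSectionVars false

namespace Cfsg.Agent.S2918Core

open Subgroup ClosedAbelian

universe u

variable {G : Type u} [Group G] [Finite G] {S : Sylow 2 G} {A U₁ V : Subgroup G} {z : G}
  (K : Conf S A U₁ V z)
include K

namespace Conf

theorem commU {x y : G} (hx : x ∈ U₁) (hy : y ∈ U₁) : x * y = y * x :=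
  haveI := K.eaU.1
  congrArg Subtype.val (mul_comm' (⟨x, hx⟩ : ↥U₁) ⟨y, hy⟩)

theorem sqU {x : G} (hx : x ∈ U₁) : x * x = 1 := by rw [← pow_two]; exact K.eaU.2 x hx

theorem eaV : Cfsg.IsElementaryAbelian 2 V :=
  ⟨⟨⟨fun p q => Subtype.ext (K.toBase.comm (K.vA p.2) (K.vA q.2))⟩⟩, fun p hp => K.ea.2 p (K.vA hp)⟩

/-- The core of the centralizer of an involution commuting with a four-group with solvable
centralizers whose cores lie in the closure lies in it. -/
theorem core_le_four {B : Subgroup G} (hB : Cfsg.IsElementaryAbelian 2 B) (h4 : 4 ≤ Nat.card B)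
    (hsol : ∀ v ∈ B, v ≠ 1 → Group.IsSolvable ↥(centralizer ({v} : Set G)))
    (hle : ∀ v ∈ B, v ≠ 1 → core (centralizer ({v} : Set G)) ≤ theta V)
    {x : G} (hx : x * x = 1) (hc : ∀ v ∈ B, v * x = x * v) :
    core (centralizer ({x} : Set G)) ≤ theta V := by
  have hBn : B ≤ normalizer (core (centralizer ({x} : Set G)) : Set G) := fun v hv =>
    core_normalized _ (mem_centralizer_singleton_iff.2 (hc v hv))
  refine le_of_cent hB h4 hBn (core_odd _) fun v hv hv1 => ?_
  haveI := hsol v hv hv1
  exact (balance hx (mem_centralizer_singleton_iff.2 (hc v hv).symm)).trans (hle v hv hv1)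

theorem core_le_comm {x : G} (hx : x * x = 1) (hc : ∀ v ∈ V, v * x = x * v) :
    core (centralizer ({x} : Set G)) ≤ theta V :=
  K.core_le_four K.eaV K.cardV (fun v hv hv1 => K.solU v (K.vU hv) hv1)
    (fun v hv hv1 => core_le_theta hv hv1) hx hc

theorem core_le_A {x : G} (hx : x ∈ A) : core (centralizer ({x} : Set G)) ≤ theta V :=
  K.core_le_comm (K.toBase.sq hx) fun _ hv => K.toBase.comm (K.vA hv) hx

theorem theta_odd : ¬ 2 ∣ Nat.card (theta V) := by
  obtain ⟨W, hW, -, hle⟩ := A8Type.exists_closure K.eaU K.cardU fun x hx hx1 y hy hy1 => by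
    haveI := K.solU y hy hy1
    exact balance (K.sqU hx) (mem_centralizer_singleton_iff.2 (K.commU hx hy))
  exact fun h => hW (h.trans (card_dvd_of_le (iSup_le fun v => hle v.1 (K.vU v.2.1) v.2.2)))

/-- An element carrying the generators into the closure normalises it. -/
theorem mem_M_of_carries {g : G} (hg : g ∈ carries V) : g ∈ normalizer (theta V : Set G) := by
  rw [← LEBasic.map_conj_eq_iff_mem_normalizer]
  refine eq_of_le_of_card_ge ?_ (LEBasic.card_map_conj _ g).ge
  rw [map_le_iff_le_comap]
  exact iSup_le fun v => map_le_iff_le_comap.1 ((conj_core_cent g v.1).trans (hg v.1 v.2.1 v.2.2))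

theorem NA_le_M : normalizer (A : Set G) ≤ normalizer (theta V : Set G) := fun _ hn =>
  K.mem_M_of_carries fun v hv _ => K.core_le_A ((mem_normalizer_iff.1 hn v).1 (K.vA hv))

theorem A_le_M : A ≤ normalizer (theta V : Set G) := Subgroup.le_normalizer.trans K.NA_le_M

theorem cent_z : centralizer ({z} : Set G) ≤ normalizer (theta V : Set G) :=
  K.gen.trans (sup_le ((K.core_le_A K.zA).trans Subgroup.le_normalizer)
    ((closure_le _).2 fun _ hg => K.mem_M_of_carries hg.2))

/-- The centralizers of the 2-central involutions of `A` normalise the closure. -/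
theorem cent_conj_z {x : G} (hx : x ∈ A) (h : IsConj z x) :
    centralizer ({x} : Set G) ≤ normalizer (theta V : Set G) := by
  obtain ⟨n, hn, hn'⟩ := K.ctrlz x hx h
  rw [← hn', ← A8Type.map_centralizer_singleton]
  rintro _ ⟨c, hc, rfl⟩
  exact mul_mem (mul_mem (K.NA_le_M hn) (K.cent_z hc)) (inv_mem (K.NA_le_M hn))

/-- The fixed points of a 2-central involution of `A` on the closure lie in the core. -/
theorem theta_conj_z {x : G} (hx : x ∈ A) (h : IsConj z x) :
    theta V ⊓ centralizer ({x} : Set G) ≤ core (centralizer ({x} : Set G)) := by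
  obtain ⟨n, hn, hn'⟩ := K.ctrlz x hx h
  subst hn'
  intro r hr
  obtain ⟨hr1, hr2⟩ := mem_inf.1 hr
  have h0 : theta V ⊓ centralizer ({z} : Set G) ≤ core (centralizer ({z} : Set G)) := by
    refine K.good _ inf_le_right ?_ fun h => K.theta_odd (h.trans (card_dvd_of_le inf_le_left))
    exact (le_inf K.A_le_M ((K.toBase.leC K.zA).trans Subgroup.le_normalizer)).trans
      inf_normalizer_le_normalizer_inf
  have h1 : n⁻¹ * r * n ∈ theta V := by
    have := (mem_normalizer_iff.1 (inv_mem (K.NA_le_M hn)) r).1 hr1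
    simpa using this
  have h2 : n⁻¹ * r * n ∈ centralizer ({z} : Set G) := by
    have h3 := mem_centralizer_singleton_iff.1 hr2
    rw [mem_centralizer_singleton_iff]
    calc n⁻¹ * r * n * z = n⁻¹ * (r * (n * z * n⁻¹)) * n := by group
      _ = n⁻¹ * (n * z * n⁻¹ * r) * n := by rw [h3]
      _ = _ := by group
  have h5 := conj_core_cent n z (mem_map_of_mem _ (h0 (mem_inf.2 ⟨h1, h2⟩)))
  simpa [mul_assoc] using h5

end Conf

end Cfsg.Agent.S2918Core
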