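import Cfsg.Agent.Lib.A8Type.General
import Cfsg.Prelude.Def_IsolatedElements

/-!
The setting for the triviality of the odd cores of the involution centralizers in a group with the
Sylow 2-subgroups of the alternating group of degree eight and solvable 2-central involution
centralizers.

`z` is the central involution and `A` the elementary abelian subgroup of order sixteen.  `V` is a
four-group of `A` inside the elementary abelian subgroup `U₁` of order eight, all of whose involutions
have solvable centralizers.  For an involution `x` of `A` not conjugate to `z`, `Loc` gives a subgroup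
`X₀` of index at most two of `C(x)` with Sylow 2-subgroup `A`, and a second involution `a` of `A` fixed
by its automiser of `A`.
-/

set_option autoImplicit false
set_option linter.style.haveILetI false
set_option linter.unusedSectionVars false

namespace Cfsg.Agent.S2918Core

open Subgroup ClosedAbelian

universe u

variable {G : Type u} [Group G]

/-- The join of the odd cores of the centralizers of the nonidentity elements. -/
noncomputable def theta (V : Subgroup G) : Subgroup G :=
  ⨆ v : {v : G // v ∈ V ∧ v ≠ 1}, core (centralizer ({v.1} : Set G))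

theorem core_le_theta {V : Subgroup G} {v : G} (hv : v ∈ V) (hv1 : v ≠ 1) :
    core (centralizer ({v} : Set G)) ≤ theta V :=
  le_iSup (fun v : {v : G // v ∈ V ∧ v ≠ 1} => core (centralizer ({v.1} : Set G))) ⟨v, hv, hv1⟩

/-- The elements carrying the generators of `theta V` into it. -/
def carries (V : Subgroup G) : Set G :=
  {g | ∀ v ∈ V, v ≠ 1 → core (centralizer ({g * v * g⁻¹} : Set G)) ≤ theta V}

/-- The common hypotheses. -/
structure Base (S : Sylow 2 G) (A : Subgroup G) (z : G) : Prop where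
  ea : Cfsg.IsElementaryAbelian 2 A
  cardA : Nat.card A = 16
  leA : A ≤ (S : Subgroup G)
  leN : (S : Subgroup G) ≤ normalizer (A : Set G)
  zA : z ∈ A
  z1 : z ≠ 1

/-- An involution of `A` with centralizer of order `32` in `S`. -/
structure BData (S : Sylow 2 G) (A U₂ : Subgroup G) (z b : G) : Prop extends Base S A z where
  cardS : Nat.card (S : Subgroup G) = 64
  bA : b ∈ A
  b1 : b ≠ 1
  nbz : ¬ IsConj z b
  center : ∀ x ∈ (S : Subgroup G), (∀ s ∈ (S : Subgroup G), x * s = s * x) → x = 1 ∨ x = z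
  cardT : Nat.card ↥((S : Subgroup G) ⊓ centralizer ({b} : Set G)) = 32
  u2le : U₂ ≤ (S : Subgroup G) ⊓ centralizer ({b} : Set G)
  u2z : z ∈ U₂
  u2A : U₂ ⊓ A ≤ zpowers b ⊔ zpowers z
  u2out : ∀ x ∈ (S : Subgroup G) ⊓ centralizer ({b} : Set G), x ∉ A → x * x = 1 → x ∈ U₂
  u2N : (S : Subgroup G) ≤ normalizer (U₂ : Set G)
  u2C : (S : Subgroup G) ⊓ centralizer (U₂ : Set G) ≤ U₂
  /-- `z` is the only conjugate of `z` in `U₂`. -/
  u2uniq : ∀ g : G, g * z * g⁻¹ ∈ U₂ → g * z * g⁻¹ = z

/-- The data on an involution of `A` not conjugate to `z`. -/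
structure Loc (A : Subgroup G) (z x : G) (X₀ : Subgroup G) (a : G) : Prop where
  xA : x ∈ A
  x1 : x ≠ 1
  aA : a ∈ A
  a1 : a ≠ 1
  ax : a ≠ x
  le : X₀ ≤ centralizer ({x} : Set G)
  norm : centralizer ({x} : Set G) ≤ normalizer (X₀ : Set G)
  AX : A ≤ X₀
  odd : ¬ 2 ∣ A.relIndex X₀
  top : ∃ D : Subgroup G, IsPGroup 2 ↥D ∧ D ≤ normalizer (A : Set G) ∧
    D ≤ centralizer ({x} : Set G) ∧ centralizer ({x} : Set G) ≤ X₀ ⊔ D
  fixa : ∀ n ∈ normalizer (A : Set G) ⊓ X₀, Odd (orderOf n) → n * a = a * n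
  /-- Either `a` is 2-central, or no involution of the four-group `⟨x, a⟩` is, and each other coset of
  it contains one. -/
  kind : IsConj z a ∨ (¬ IsConj z a ∧ ¬ IsConj z (a * x) ∧
    ∀ v ∈ A, v ≠ 1 → v ≠ x → v ≠ a → v ≠ a * x →
      IsConj z v ∨ IsConj z (v * x) ∨ IsConj z (v * a) ∨ IsConj z (v * (a * x)))

/-- The hypotheses. -/
structure Conf (S : Sylow 2 G) (A U₁ V : Subgroup G) (z : G) : Prop extends Base S A z where
  oddG : Cfsg.oddCore G = ⊥
  sol : Group.IsSolvable ↥(centralizer ({z} : Set G))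
  /-- Odd subgroups of `C(z)` normalised by `A` lie in its core. -/
  good : ∀ R : Subgroup G, R ≤ centralizer ({z} : Set G) → A ≤ normalizer (R : Set G) →
    ¬ 2 ∣ Nat.card R → R ≤ core (centralizer ({z} : Set G))
  ctrlz : ∀ x ∈ A, IsConj z x → ∃ n ∈ normalizer (A : Set G), n * z * n⁻¹ = x
  other : ∃ b ∈ A, b ≠ 1 ∧ ¬ IsConj z b
  loc : ∀ x ∈ A, x ≠ 1 → ¬ IsConj z x → ∃ (X₀ : Subgroup G) (a : G), Loc A z x X₀ a
  eaU : Cfsg.IsElementaryAbelian 2 U₁
  cardU : 8 ≤ Nat.card U₁
  vA : V ≤ A
  vU : V ≤ U₁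
  cardV : 4 ≤ Nat.card V
  solU : ∀ u ∈ U₁, u ≠ 1 → Group.IsSolvable ↥(centralizer ({u} : Set G))
  /-- The centralizer of `z` is generated, modulo its core, by elements carrying the generators of
  `theta V` into it. -/
  gen : centralizer ({z} : Set G) ≤ core (centralizer ({z} : Set G)) ⊔
    closure ((centralizer ({z} : Set G) : Set G) ∩ carries V)
  /-- The involutions of `S` go into `A`. -/
  inA : ∀ s ∈ (S : Subgroup G), s * s = 1 →
    ∃ g ∈ centralizer ({z} : Set G) ⊔ normalizer (A : Set G), g * s * g⁻¹ ∈ A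

end Cfsg.Agent.S2918Core
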